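import Groth.Agent.L25.RedOpen.Field
import Groth.Agent.L25.Locus.Conjugacy
import Groth.Agent.L08.MonoRed.Acts
import Groth.Agent.L08.TorusWeights.Radical
import Groth.Agent.L08.Borel.SelfCentral

/-!
# A split torus and the transporters of its subtori in geometric fibres
-/

set_option autoImplicit false
set_option linter.unusedSectionVars false
set_option linter.style.haveILetI false
set_option backward.isDefEq.respectTransparency.types false
set_option maxHeartbeats 1000000

universe u

open CategoryTheory CategoryTheory.Limits MonoidalCategory CartesianMonoidalCategory MonObj GrpObj AlgebraicGeometry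
open Groth.L06.CoxeterElt Groth.L06.RootLines
open Groth.L25.SplitSub (bcDS bcHom isMonHom_bcHom)

noncomputable section

namespace Groth.L25.RedOpen

/-- points transporting a homomorphism conjugate its base change -/
theorem conjBy_of_transports {S P : Scheme.{u}} {H G : Over S} [GrpObj G] (u₁ u₂ : H ⟶ G) (b : P ⟶ S)
    (x : Over.mk b ⟶ G) (hx : Locus.Transports u₁ u₂ (Over.mk b) x) :
    AGF.conjBy (Locus.sectionOf b x) ((Over.pullback b).map u₁) = (Over.pullback b).map u₂ := by
  let Y := Red.bc b H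
  have h := congrArg (NilAction.ofBase b)
    (hx _ (Over.homMk Y.hom rfl : Over.mk (Y.hom ≫ b) ⟶ Over.mk b) (NilAction.toBase b (𝟙 Y)))
  rw [← Locus.toBase_sectionOf b x Y, Locus.ofBase_mul, Locus.ofBase_mul, Locus.ofBase_inv,
    NilAction.ofBase_toBase, ← NilAction.ofBase_comp, ← NilAction.ofBase_comp, NilAction.ofBase_toBase,
    Category.id_comp, Category.id_comp] at h
  exact h

/-- points conjugating the base change of a homomorphism transport it -/
theorem transports_of_conjBy {S P : Scheme.{u}} {H G : Over S} [GrpObj G] (u₁ u₂ : H ⟶ G) (b : P ⟶ S)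
    (x : Over.mk b ⟶ G)
    (hx : AGF.conjBy (Locus.sectionOf b x) ((Over.pullback b).map u₁) = (Over.pullback b).map u₂) :
    Locus.Transports u₁ u₂ (Over.mk b) x := by
  intro X' t h
  let Y : Over P := Over.mk t.left
  let e : Over.mk (Y.hom ≫ b) ⟶ X' := Over.homMk (𝟙 _) (by
    show 𝟙 _ ≫ X'.hom = t.left ≫ b
    rw [Category.id_comp]; exact (Over.w t).symm)
  haveI : IsIso e.left := inferInstanceAs (IsIso (𝟙 _))
  haveI : IsIso ((Over.forget S).map e) := ‹IsIso e.left›
  haveI : IsIso e := isIso_of_reflects_iso _ (Over.forget S)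
  rw [← cancel_epi e]
  simp only [MonObj.comp_mul, GrpObj.comp_inv, ← Category.assoc]
  have h1 : (e ≫ t) ≫ x = NilAction.toBase b (toUnit Y ≫ Locus.sectionOf b x) := by
    rw [Locus.toBase_sectionOf]
    congr 1
  have h2 := congrArg (fun m => Locus.toBaseHom b (NilAction.ofBase b (e ≫ h) ≫ m)) hx
  simp only [AGF.conjBy, MonObj.comp_mul, GrpObj.comp_inv, map_mul, map_inv, ← Category.assoc,
    NilAction.ofBase_comp] at h2
  rw [toUnit_unique (NilAction.ofBase b (e ≫ h) ≫ toUnit _) (toUnit Y)] at h2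
  simp only [Locus.toBaseHom, MonoidHom.mk'_apply, NilAction.toBase_ofBase] at h2
  rw [h1]
  exact h2

variable {S : Scheme.{u}} {G : Over S} [GrpObj G] {r r' : ℕ}

section Fibre

variable {K : Type u} [Field K] [IsAlgClosed K] (b : Spec (CommRingCat.of K) ⟶ S)

/-- the split torus in a geometric fibre -/
def iTb {X : Over S} (i : Red.DS S (Fin r → ℤ) ⟶ X) : TT K r ⟶ Red.bc b X := toDS K r ≫ bcHom b i

/-- the split group in a geometric fibre -/
def eTT (r : ℕ) : TT K r ≅ Red.bc b (Red.DS S (Fin r → ℤ)) := asIso (toDS K r) ≪≫ (bcDS b).symm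

theorem isMonHom_eTT (r : ℕ) : IsMonHom (eTT (S := S) b r).hom := by
  haveI : IsMonHom (bcDS (N := Fin r → ℤ) b).symm.hom :=
    inferInstanceAs (IsMonHom (bcDS (N := Fin r → ℤ) b).inv)
  exact inferInstanceAs (IsMonHom (toDS K r ≫ (bcDS (N := Fin r → ℤ) b).symm.hom))

theorem eTT_map {X : Over S} (i : Red.DS S (Fin r → ℤ) ⟶ X) :
    (eTT b r).hom ≫ (Over.pullback b).map i = iTb b i := by
  simp [eTT, iTb, bcHom]

theorem iTb_comp {X Y : Over S} (i : Red.DS S (Fin r → ℤ) ⟶ X) (f : X ⟶ Y) :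
    iTb b i ≫ (Over.pullback b).map f = iTb b (i ≫ f) := by
  rw [← eTT_map, ← eTT_map, Category.assoc, ← Functor.map_comp]

theorem dP_iTb {X : Over S} (i : Red.DS S (Fin r → ℤ) ⟶ X) (p : (Fin r → ℤ) →+ (Fin r' → ℤ)) :
    dP K p ≫ iTb b i = iTb b (Red.DSmap S p ≫ i) := by
  rw [iTb, iTb, Groth.L08.MonoRed.bcHom_comp, ← Category.assoc, ← Category.assoc, dP_toDS]

theorem isMonHom_iTb {X : Over S} [GrpObj X] (i : Red.DS S (Fin r → ℤ) ⟶ X) [IsMonHom i] :
    IsMonHom (iTb b i) := by
  haveI := isMonHom_bcHom b i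
  exact inferInstanceAs (IsMonHom (toDS K r ≫ bcHom b i))

theorem mono_iTb {X : Over S} (i : Red.DS S (Fin r → ℤ) ⟶ X) [Mono i] : Mono (iTb b i) := by
  haveI : Mono ((Over.pullback b).map i) := Functor.map_mono _ _
  rw [← eTT_map]
  exact mono_comp _ _

/-- the centralizer of a subtorus in a fibre -/
theorem centralizer_fibre (i : Red.DS S (Fin r → ℤ) ⟶ G) (p : (Fin r → ℤ) →+ (Fin r' → ℤ)) {Z : Over S}
    [GrpObj Z] {z : Z ⟶ G} (hz : Red.IsCentralizerOf (Red.DSmap S p ≫ i) z) :
    Red.IsCentralizerOf (dP K p ≫ iTb b i) ((Over.pullback b).map z) := by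
  rw [dP_iTb, ← eTT_map]
  exact isCentralizerOf_iso_comp (eTT b r') (Groth.L08.Borel.isCentralizerOf_bc b hz)

/-- a self-centralizing split torus stays self-centralizing in fibres -/
theorem selfCentral_fibre (i : Red.DS S (Fin r → ℤ) ⟶ G) [IsMonHom i] (hi : Red.IsCentralizerOf i i) :
    Red.IsCentralizerOf (iTb b i) (iTb b i) := by
  haveI := isMonHom_iTb b i
  haveI : IsMonHom (Iso.refl (Red.bc b G)).hom := inferInstanceAs (IsMonHom (𝟙 (Red.bc b G)))
  exact Groth.L08.Borel.isCentralizerOf_transport (Iso.refl _) (eTT b r) (by simp [eTT_map]) (eTT b r)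
    (by simp [eTT_map]) (Groth.L08.Borel.isCentralizerOf_bc b hi)

/-- an action on the torus, read on the base change -/
theorem acts_iff {X : Over S} [GrpObj X] (u : Red.DS S (Fin r → ℤ) ⟶ X) (n : 𝟙_ (Over (Spec (CommRingCat.of K))) ⟶ Red.bc b X)
    (θ : (Fin r → ℤ) →+ (Fin r → ℤ)) :
    Acts (iTb b u) n θ ↔
      AGF.conjBy n ((Over.pullback b).map u) = (Over.pullback b).map (Red.DSmap S θ ≫ u) := by
  rw [Acts, dP_iTb, ← eTT_map, ← eTT_map, ← Groth.L08.Borel.comp_conjBy, cancel_epi]

end Fibre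

/-- a self-centralizing torus is maximal -/
theorem isMaxTorus_of_selfCentral {K : Type u} [Field K] [IsAlgClosed K] {G T : Over (Spec (CommRingCat.of K))}
    [GrpObj G] [GrpObj T] {i : T ⟶ G} [IsMonHom i] [Mono i] (hT : Red.IsTorus T) (hi : Red.IsCentralizerOf i i) :
    AGF.IsMaxTorus i := by
  refine ⟨inferInstance, inferInstance, hT, fun T' _ j _ _ f hT' hf => ?_⟩
  obtain ⟨t, ht⟩ := (hi.2.2 T' j).2 fun X x h => by
    rw [← hf, ← Category.assoc, ← MonObj.mul_comp, ← MonObj.mul_comp,
      Groth.L08.TorusWeights.torus_comm hT']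
  exact ⟨t, by rw [← cancel_mono i, Category.assoc, ht, hf, Category.id_comp],
    by rw [← cancel_mono j, Category.assoc, hf, ht, Category.id_comp]⟩

variable {k : Type u} [Field k] [IsAlgClosed k]

/-- tori are reductive -/
theorem isReductiveOver_torus {T : Over (Spec (CommRingCat.of k))} [GrpObj T] (hT : Red.IsTorus T) :
    Red.IsReductiveOver k T := by
  obtain ⟨hTa, hTs, hTc, -, -⟩ := Groth.L08.Borel.torus_props hT
  refine ⟨hTa, hTs, hTc, fun U _ u _ huc hUs hUc _ hns => ?_⟩
  haveI := hTa; haveI := huc; haveI := hUs; haveI := hUc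
  haveI : IsAffine U.left := isAffine_of_isAffineHom u.left
  haveI : Mono u := Groth.L08.mono_of_closedImmersion u
  have h1 : u = 1 :=
    Groth.L14.Luna.hom_torus_eq_one (Groth.L14.Luna.isSolvableGrp_of_noSubtorus U hns) hns hT u
  exact Groth.L14.Luna.isTrivialGrp_of_id_eq_one (by rw [← cancel_mono u, Category.id_comp, h1, MonObj.comp_one])

/-- reductivity is transported by isomorphisms -/
theorem isReductiveOver_of_iso {G G' : Over (Spec (CommRingCat.of k))} [GrpObj G] [GrpObj G'] (e : G ≅ G')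
    [IsMonHom e.hom] (h : Red.IsReductiveOver k G) : Red.IsReductiveOver k G' :=
  Groth.L14.RedLR.isReductiveOver_congr (Grp.mkIso' e) h

theorem dim_TT (r : ℕ) : topologicalKrullDim (TT k r).left = r :=
  (IsHomeomorph.topologicalKrullDim_eq _ (Scheme.homeoOfIso ((Over.forget _).mapIso
    (asIso (toDS k r)))).isHomeomorph).trans Groth.L08.Borel.dim_DS

end Groth.L25.RedOpen
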