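import Groth.Agent.L25.RedOpen.Open
import Groth.Agent.L25.TorusNhd.Nhd
import Groth.Agent.L08.Borel.BorelPreimage
import Groth.Agent.L08.Borel.MaxTorusNonsmooth

/-!
# Consequences of the openness of the reductive locus
-/

set_option autoImplicit false
set_option linter.unusedSectionVars false
set_option linter.style.haveILetI false
set_option backward.isDefEq.respectTransparency.types false
set_option maxHeartbeats 1000000

universe u

open CategoryTheory CategoryTheory.Limits MonoidalCategory CartesianMonoidalCategory MonObj GrpObj AlgebraicGeometry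

noncomputable section

namespace Groth.L25.RedOpen

variable {S : Scheme.{u}} {G : Over S} [GrpObj G]

/-- maximality is insensitive to isomorphisms of the ambient group -/
theorem isMaximalTorus_comp_iso {G' T : Over S} [GrpObj G'] [GrpObj T] (e : G ≅ G') [IsMonHom e.hom] {i : T ⟶ G}
    (h : Red.IsMaximalTorus i) : Red.IsMaximalTorus (i ≫ e.hom) := by
  haveI := h.1; haveI := h.2.1
  refine ⟨inferInstance, mono_comp _ _, h.2.2.1, fun s T₁ _ a _ _ f h₁ hf => ?_⟩
  haveI : IsMonHom e.symm.hom := inferInstanceAs (IsMonHom e.inv)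
  haveI : IsMonHom e.inv := inferInstance
  haveI : Mono ((Over.pullback (Red.geomPt s)).map e.inv) := Functor.map_mono _ _
  haveI : IsMonHom ((Over.pullback (Red.geomPt s)).map e.inv) := inferInstance
  haveI : Mono (a ≫ (Over.pullback (Red.geomPt s)).map e.inv) := mono_comp _ _
  exact h.2.2.2 s T₁ (a ≫ (Over.pullback (Red.geomPt s)).map e.inv) f h₁ (by
    rw [← Category.assoc, hf, ← Functor.map_comp, Category.assoc, e.hom_inv_id, Category.comp_id])

/-- fibres connected as spaces -/
theorem connectedSpace_fibre (hconn : ∀ s : S, _root_.IsConnected (G.hom.base ⁻¹' {s})) (s : S) :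
    ConnectedSpace ↥(pullback G.hom (S.fromSpecResidueField s)) :=
  haveI : ConnectedSpace (G.hom.base ⁻¹' {s}) := isConnected_iff_connectedSpace.1 (hconn s)
  (G.hom.fiberHomeo s).symm.surjective.connectedSpace (G.hom.fiberHomeo s).symm.continuous

/-- **a flat group is reductive near a reductive fibre** -/
theorem exists_affine_reductive [IsAffineHom G.hom] [LocallyOfFinitePresentation G.hom] [Flat G.hom]
    (hconn : ∀ s : S, _root_.IsConnected (G.hom.base ⁻¹' {s})) (s₀ : S)
    (h₀ : Red.IsReductiveOver (AlgebraicClosure (S.residueField s₀)) (Red.geomFibre s₀ G)) :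
    ∃ U : S.Opens, s₀ ∈ U ∧ Red.IsReductive (Red.bc U.ι G) := by
  obtain ⟨U₁, hs₁, hsm⟩ := Groth.L25.TorusNhd.exists_smooth_nhd (connectedSpace_fibre hconn) s₀
    (Groth.L08.Borel.smooth_fibre_of_geomFibre G s₀ h₀.2.1)
  haveI := hsm
  haveI : IsAffineHom (Red.bc U₁.ι G).hom := MorphismProperty.pullback_snd (P := @IsAffineHom) G.hom U₁.ι inferInstance
  obtain ⟨U₂, hs₂, hU₂⟩ := exists_nhd_reductive (G := Red.bc U₁.ι G)
    (Groth.L25.Extension.isConnected_fibre_bc U₁.ι G hconn) (⟨s₀, hs₁⟩ : U₁.toScheme)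
    ((reductive_bcComp_iff U₁.ι _ rfl).2 (isReductiveOver_of_geomFibre _ (by
      rw [Scheme.Hom.comp_apply, Groth.L08.Borel.geomPt_apply]; rfl) h₀))
  let U : S.Opens := U₁.ι ''ᵁ U₂
  have hUU : U ≤ U₁ := Scheme.Opens.ι_image_le _ _
  refine ⟨U, ⟨⟨s₀, hs₁⟩, hs₂, rfl⟩, MorphismProperty.pullback_snd (P := @IsAffineHom) G.hom U.ι inferInstance, ?_, fun t => ?_⟩
  · let e := ActBC.bcCompIso (S.homOfLE hUU) U₁.ι G (Scheme.homOfLE_ι S hUU)
    haveI : Smooth (Red.bc (S.homOfLE hUU) (Red.bc U₁.ι G)).hom := MorphismProperty.pullback_snd _ _ hsm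
    haveI : IsIso e.inv.left := inferInstanceAs (IsIso ((Over.forget _).map e.inv))
    rw [← Over.w e.inv]
    infer_instance
  obtain ⟨⟨x, hx₁⟩, hx₂, hx⟩ : U.ι t ∈ U₁.ι '' (U₂ : Set U₁.toScheme) := t.2
  refine (reductive_bcComp_iff U.ι _ rfl).2 ?_
  have h := hU₂ _ (Red.geomPt t ≫ S.homOfLE hUU) (by
    rw [Scheme.Hom.comp_apply, Groth.L08.Borel.geomPt_apply]
    have e : (S.homOfLE hUU t : U₁.toScheme) = ⟨x, hx₁⟩ := by
      refine U₁.ι.isOpenEmbedding.injective ?_
      rw [← Scheme.Hom.comp_apply, Scheme.homOfLE_ι]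
      exact hx.symm
    rw [e]; exact hx₂)
  exact (reductive_bcComp_iff U₁.ι _ (by rw [Category.assoc, Scheme.homOfLE_ι])).1 h

end Groth.L25.RedOpen
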