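import Groth.Agent.L25.RedOpen.Apply
import Groth.Agent.L25.RedField.Subtorus
import Groth.Agent.L25.RedField.Radical
import Groth.Agent.L08.TorusWeights.Global
import Groth.Agent.S14754

/-!
# The semisimple locus
-/

set_option autoImplicit false
set_option linter.unusedSectionVars false
set_option linter.style.haveILetI false
set_option backward.isDefEq.respectTransparency.types false
set_option maxHeartbeats 1000000

universe u

open CategoryTheory CategoryTheory.Limits MonoidalCategory CartesianMonoidalCategory MonObj GrpObj AlgebraicGeometry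
open Groth.L08.TorusWeights (IsCentralHom FieldUniv FieldUnivAt)

noncomputable section

namespace Groth.L25.RedOpen

section Field

variable {k : Type u} [Field k] [IsAlgClosed k]

local notation "SK" => Spec (CommRingCat.of k)

/-- semisimplicity is transported by isomorphisms -/
theorem isSemisimpleOver_of_iso {G G' : Over SK} [GrpObj G] [GrpObj G'] (e : G ≅ G') [IsMonHom e.hom]
    (h : Red.IsSemisimpleOver k G) : Red.IsSemisimpleOver k G' := by
  refine ⟨isReductiveOver_of_iso e h.1, fun T _ i _ hic hn hT => ?_⟩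
  haveI := hic
  haveI : IsIso e.inv.left := inferInstanceAs (IsIso ((Over.forget _).map e.inv))
  refine h.2 T (i ≫ e.inv) (inferInstanceAs (IsClosedImmersion (i.left ≫ e.inv.left))) (fun X g n => ?_) hT
  obtain ⟨n', hn'⟩ := hn X (g ≫ e.hom) n
  refine ⟨n', ?_⟩
  rw [← Category.assoc n' i, ← hn', MonObj.mul_comp, MonObj.mul_comp, GrpObj.inv_comp]
  simp only [Category.assoc, e.hom_inv_id, Category.comp_id]

/-- **semisimple means torsion centre** -/
theorem isSemisimpleOver_iff_torsion {G : Over SK} [GrpObj G] (hG : Red.IsReductiveOver k G) {M : Type}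
    [AddCommGroup M] (hM : AddGroup.FG M) (d : Red.DS SK M ⟶ G) [IsMonHom d] [Mono d] (hd : IsCentralHom d)
    (huniv : ∀ (H : Over SK) [GrpObj H] (v : H ⟶ G) [IsMonHom v], SGA3x.IsMultTypeFT H → IsCentralHom v →
      ∃ w : H ⟶ Red.DS SK M, w ≫ d = v) :
    Red.IsSemisimpleOver k G ↔ ∀ x : M, ∃ n : ℕ, 0 < n ∧ n • x = 0 := by
  haveI := hG.1; haveI := hG.2.1; haveI := hG.2.2.1
  constructor
  · intro hss
    obtain ⟨r, π, -, n, hn, hπ, -, -, hker⟩ := Groth.L25.RedField.exists_free_quotient M hM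
    rcases Nat.eq_zero_or_pos r with rfl | hr
    · exact fun x => ⟨n, hn, hker x (Subsingleton.elim _ _)⟩
    exfalso
    haveI : IsMonHom (Red.DSmap SK π) := Groth.L25.TorusTorsion.isMonHom_DSmap _ _
    haveI : Mono (Red.DSmap SK π) := Groth.L25.SplitSub.mono_DSmap π hπ
    let iT := Red.DSmap SK π ≫ d
    haveI : IsMonHom iT := inferInstanceAs (IsMonHom (Red.DSmap SK π ≫ d))
    haveI : Mono iT := mono_comp _ _
    haveI : QuasiCompact G.hom := quasiCompact_of_compactSpace _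
    have hTr := Groth.L25.RedField.isTorus_split SK r
    haveI : IsClosedImmersion iT.left :=
      Groth.L25.MonoClosed.isClosedImmersion_of_mono (Groth.L25.Locus.isMultTypeFT_of_isTorus hTr) iT
    have htriv := hss.2 _ iT inferInstance (fun X g x => ⟨x, by
      rw [show x ≫ iT = (x ≫ Red.DSmap SK π) ≫ d from (Category.assoc _ _ _).symm, ← hd X (x ≫ Red.DSmap SK π) g,
        mul_inv_cancel_right]⟩) hTr
    haveI : IsIso (Red.DS SK (Fin r → ℤ)).hom := htriv
    have h := IsHomeomorph.topologicalKrullDim_eq _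
      (Scheme.homeoOfIso (asIso (Red.DS SK (Fin r → ℤ)).hom)).isHomeomorph
    rw [Groth.L08.Borel.dim_DS] at h
    have h0 : topologicalKrullDim ↥SK = 0 := by
      exact (PrimeSpectrum.topologicalKrullDim_eq_ringKrullDim k).trans (ringKrullDim_eq_zero_of_field k)
    rw [h0] at h
    exact absurd (Nat.cast_eq_zero.1 h) (Nat.ne_of_gt hr)
  · intro htor
    refine ⟨hG, fun T _ i _ hic hn hT => ?_⟩
    haveI := hic
    haveI : Mono i := Over.mono_of_mono_left i
    obtain ⟨w, hw⟩ := huniv T i (Groth.L25.Locus.isMultTypeFT_of_isTorus hT)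
      (fun X x g => Groth.L25.RedField.central_of_normal_torus hT i hn X x g)
    haveI : IsMonHom w := Groth.L08.Borel.isMonHom_of_comp_mono w d i hw
    obtain ⟨r, hr⟩ := Groth.L08.Borel.exists_split_rank hT
    obtain ⟨pT, p', hpT, -, h1, h2, hpiso⟩ := Groth.L25.SplitSub.exists_std hr
    haveI := hpT; haveI := hpiso
    haveI : AddGroup.FG M := hM
    haveI : Monoid.FG (Multiplicative M) := Groth.L25.SplitSub.monoidFG_of_addGroupFG hM
    obtain ⟨φ, hφ⟩ := Groth.Agent.S14754.exists_DSmap (k := k) (pT ≫ w)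
    have hφ0 : φ = 0 := by
      refine AddMonoidHom.ext fun x => ?_
      obtain ⟨n, hn0, hnx⟩ := htor x
      have h := congrArg φ hnx
      rw [map_nsmul, map_zero, smul_eq_zero] at h
      exact h.resolve_left (Nat.ne_of_gt hn0)
    have hw1 : pT ≫ w = 1 := by
      rw [hφ, hφ0, ← Category.id_comp (Red.DSmap SK (0 : M →+ (Fin r → ℤ)))]
      refine DSPts.char_injective ?_
      rw [SplitSub.char_DSmap, DSPts.char_one]
      exact MonoidHom.ext fun x => map_one (DSPts.char (𝟙 (Red.DS SK (Fin r → ℤ))))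
    refine Groth.L14.Luna.isTrivialGrp_of_id_eq_one ?_
    rw [← cancel_epi pT, ← cancel_mono i, Category.comp_id, MonObj.comp_one, MonObj.one_comp, ← hw,
      ← Category.assoc, hw1, MonObj.one_comp]

end Field

variable {S : Scheme.{u}} {G : Over S} [GrpObj G]

/-- **semisimple fibres spread out in a reductive group** -/
theorem exists_nhd_semisimple (hG : Red.IsReductive G) {K₀ : Type u} [Field K₀] [IsAlgClosed K₀]
    (b₀ : Spec (CommRingCat.of K₀) ⟶ S) (hs : Red.IsSemisimpleOver K₀ (Red.bc b₀ G)) :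
    ∃ U : S.Opens, b₀ (IsLocalRing.closedPoint K₀) ∈ U ∧
      ∀ (K : Type u) [Field K] [IsAlgClosed K] (b : Spec (CommRingCat.of K) ⟶ S),
        b (IsLocalRing.closedPoint K) ∈ U → Red.IsSemisimpleOver K (Red.bc b G) := by
  let s : S := b₀ (IsLocalRing.closedPoint K₀)
  haveI := hG.1; haveI := hG.2.1
  obtain ⟨P, e, p, Z, gZ, z, he, hp, hzm, hzmono, hZ, hzc, hzu⟩ :=
    Groth.L08.TorusWeights.exists_chart_centre (Groth.L08.TorusWeights.isConnected_of_isReductive hG)
      (Groth.L08.TorusWeights.redRankLocallyConstant_of_isReductive hG) s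
  obtain ⟨S₂, g, hg, ⟨s₂, hs₂⟩, M, _, hM, ⟨eM⟩⟩ := Groth.L25.Extend.exists_etale_split hZ p
  haveI := he; haveI := hzm; haveI := hzmono
  haveI : Etale g := hg
  let φ : Red.bc g Z ≅ Red.DS S₂ M := (Grp.forget _).mapIso eM
  haveI : IsMonHom φ.hom := eM.hom.hom.isMonHom_hom
  -- the criterion at a point
  have crit : ∀ (K : Type u) [Field K] [IsAlgClosed K] (σ : Spec (CommRingCat.of K) ⟶ S₂)
      (b : Spec (CommRingCat.of K) ⟶ S), σ ≫ g ≫ e = b →
      (Red.IsSemisimpleOver K (Red.bc b G) ↔ ∀ x : M, ∃ n : ℕ, 0 < n ∧ n • x = 0) := by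
    intro K _ _ σ b hb
    let e₁ := ActBC.bcCompIso (σ ≫ g) e G (show (σ ≫ g) ≫ e = b by rw [Category.assoc, hb])
    let a : Red.DS (Spec (CommRingCat.of K)) M ≅ Red.bc (σ ≫ g) Z :=
      (SplitSub.bcDS σ).symm ≪≫ (Over.pullback σ).mapIso φ.symm ≪≫ ActBC.bcCompIso σ g Z rfl
    haveI : IsMonHom a.hom := by
      haveI : IsMonHom (SplitSub.bcDS (N := M) σ).symm.hom :=
        inferInstanceAs (IsMonHom (SplitSub.bcDS (N := M) σ).inv)
      haveI : IsMonHom φ.symm.hom := inferInstanceAs (IsMonHom φ.inv)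
      haveI : IsMonHom ((Over.pullback σ).mapIso φ.symm).hom :=
        inferInstanceAs (IsMonHom ((Over.pullback σ).map φ.symm.hom))
      exact inferInstanceAs (IsMonHom (_ ≫ _ ≫ _))
    let d := (a.hom ≫ (Over.pullback (σ ≫ g)).map z) ≫ e₁.hom
    haveI : IsMonHom ((Over.pullback (σ ≫ g)).map z) := inferInstance
    haveI : Mono ((Over.pullback (σ ≫ g)).map z) := Functor.map_mono _ _
    haveI : IsMonHom d := inferInstanceAs (IsMonHom ((a.hom ≫ (Over.pullback (σ ≫ g)).map z) ≫ e₁.hom))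
    haveI : Mono d := mono_comp _ _
    have hd : IsCentralHom d := Groth.L08.TorusWeights.isCentralHom_comp (fun X x y => by
      rw [← Category.assoc]
      exact Groth.L08.TorusWeights.isCentralHom_map hzc _ X (x ≫ a.hom) y) e₁
    refine isSemisimpleOver_iff_torsion (Groth.L08.MonoRed.isReductiveOver_geom hG b) hM d hd fun H _ v _ hH hv => ?_
    haveI : IsMonHom e₁.symm.hom := inferInstanceAs (IsMonHom e₁.inv)
    obtain ⟨w, hw⟩ := hzu K (σ ≫ g) H (v ≫ e₁.symm.hom) hH (Groth.L08.TorusWeights.isCentralHom_comp hv _)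
    refine ⟨w ≫ a.inv, ?_⟩
    simp only [d, Category.assoc, Iso.inv_hom_id_assoc]
    rw [← Category.assoc, hw, Category.assoc, Iso.symm_hom, Iso.inv_hom_id, Category.comp_id]
  let ee : S₂ ⟶ S := g ≫ e
  have hsr : s ∈ Set.range ee.base := ⟨s₂, by rw [Scheme.Hom.comp_apply, show g s₂ = p from hs₂]; exact hp⟩
  obtain ⟨y, hy⟩ := hsr
  obtain ⟨σ₀, hσ₀⟩ := Groth.L08.Borel.exists_pt_lift_etale ee b₀ y hy
  have htor := (crit _ σ₀ _ hσ₀).1 hs
  refine ⟨⟨Set.range ee.base, ee.isOpenMap.isOpen_range⟩, ⟨y, hy⟩, fun K _ _ b hb => ?_⟩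
  obtain ⟨x, hx⟩ := hb
  obtain ⟨σ, hσ⟩ := Groth.L08.Borel.exists_pt_lift_etale ee b x hx
  exact (crit _ σ _ hσ).2 htor

/-- **the semisimple locus is open** -/
theorem isOpen_semisimpleLocus [IsAffineHom G.hom] [Smooth G.hom]
    (hconn : ∀ s : S, _root_.IsConnected (G.hom.base ⁻¹' {s})) :
    IsOpen {s : S | Red.IsSemisimpleOver (AlgebraicClosure (S.residueField s)) (Red.geomFibre s G)} := by
  refine isOpen_iff_forall_mem_open.2 fun s hs => ?_
  obtain ⟨U₁, hs₁, hU₁⟩ := exists_nhd_reductive hconn s hs.1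
  have hred : Red.IsReductive (Red.bc U₁.ι G) :=
    ⟨MorphismProperty.pullback_snd (P := @IsAffineHom) G.hom U₁.ι inferInstance,
      MorphismProperty.pullback_snd _ _ ‹Smooth G.hom›, fun t => (reductive_bcComp_iff U₁.ι _ rfl).2
        (hU₁ _ _ (by rw [Scheme.Hom.comp_apply]; exact (Red.geomPt t (IsLocalRing.closedPoint _)).2))⟩
  obtain ⟨σ, hσ⟩ := Groth.L08.Borel.exists_geomPt_lift U₁.ι (t := s) ⟨⟨s, hs₁⟩, rfl⟩
  haveI : IsMonHom (ActBC.bcCompIso σ U₁.ι G hσ).symm.hom :=
    inferInstanceAs (IsMonHom (ActBC.bcCompIso σ U₁.ι G hσ).inv)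
  obtain ⟨U₂, hs₂, hU₂⟩ :=
    exists_nhd_semisimple hred σ (isSemisimpleOver_of_iso (ActBC.bcCompIso σ U₁.ι G hσ).symm hs)
  refine ⟨U₁.ι '' U₂, ?_, U₁.ι.isOpenMap _ U₂.2, ⟨_, hs₂, ?_⟩⟩
  · rintro _ ⟨x, hx, rfl⟩
    obtain ⟨τ, hτ⟩ := Groth.L08.Borel.exists_pt_lift_etale U₁.ι (Red.geomPt (U₁.ι x)) x
      (Groth.L08.Borel.geomPt_apply _ _).symm
    refine isSemisimpleOver_of_iso (ActBC.bcCompIso τ U₁.ι G hτ) (hU₂ _ τ ?_)
    rw [U₁.ι.isOpenEmbedding.injective (show U₁.ι (τ (IsLocalRing.closedPoint _)) = U₁.ι x by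
      rw [← Scheme.Hom.comp_apply, hτ, Groth.L08.Borel.geomPt_apply])]
    exact hx
  · rw [← Scheme.Hom.comp_apply, hσ, Groth.L08.Borel.geomPt_apply]

end Groth.L25.RedOpen
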