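import Groth.Agent.L25.RedOpen.RankOne
import Groth.Agent.L06.RootLines.CentRed
import Groth.Agent.L06.RootLines.Centralizer
import Groth.Agent.L25.RedField.Unipotent

/-!
# Reductivity from the centralizers of singular subtori
-/

set_option autoImplicit false
set_option linter.unusedSectionVars false
set_option linter.style.haveILetI false
set_option backward.isDefEq.respectTransparency.types false
set_option maxHeartbeats 1000000

universe u

open CategoryTheory CategoryTheory.Limits MonoidalCategory CartesianMonoidalCategory MonObj GrpObj AlgebraicGeometry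
open Groth.L08.Borel Groth.L06.CoxeterElt Groth.L06.RootLines
open Groth.L25.Bridge (P)
open Groth.L08.TorusQuot (sp exists_sp)

noncomputable section

namespace Groth.L25.RedOpen

variable {k : Type u} [Field k] [IsAlgClosed k]

local notation "SK" => Spec (CommRingCat.of k)
local notation "U1" => 𝟙_ (Over (Spec (CommRingCat.of k)))

/-- precomposing with an isomorphism of groups does not change maximality -/
theorem isMaxTorus_iso_comp {G T T' : Over SK} [GrpObj G] [GrpObj T] [GrpObj T'] (e : T' ≅ T) [IsMonHom e.hom]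
    {i : T ⟶ G} (hi : AGF.IsMaxTorus i) : AGF.IsMaxTorus (e.hom ≫ i) := by
  haveI := hi.1; haveI := hi.2.1
  refine ⟨inferInstance, mono_comp _ _, Groth.L25.TorLift.isTorus_of_iso (Grp.mkIso' e).symm hi.2.2.1,
    fun T'' _ j _ _ f hT'' hf => ?_⟩
  haveI : IsIso (e.inv ≫ f) := hi.2.2.2 T'' j (e.inv ≫ f) hT'' (by rw [Category.assoc, hf, Iso.inv_hom_id_assoc])
  exact IsIso.of_isIso_comp_left e.inv f

/-- precomposing with an isomorphism does not change centralizers -/
theorem isCentralizerOf_iso_comp {S : Scheme.{u}} {G H H' Z : Over S} [GrpObj G] [GrpObj Z] (e : H' ≅ H)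
    {i : H ⟶ G} {z : Z ⟶ G} (h : Red.IsCentralizerOf i z) : Red.IsCentralizerOf (e.hom ≫ i) z := by
  haveI := h.1
  haveI : IsMonHom (Iso.refl G).hom := inferInstanceAs (IsMonHom (𝟙 G))
  exact Groth.L08.Borel.isCentralizerOf_transport (Iso.refl G) e (by simp) (Iso.refl Z) (by simp) h

/-- in a reductive group a maximal torus which is not the whole group has a non-trivial normalising point -/
theorem exists_weyl_point {C T : Over SK} [GrpObj C] [GrpObj T] (hC : Red.IsReductiveOver k C) {t : T ⟶ C}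
    (ht : AGF.IsMaxTorus t) (hne : ¬ IsIso t) :
    ∃ (n : U1 ⟶ C) (τ : T ≅ T), τ.hom ≫ t = AGF.conjBy n t ∧ AGF.conjBy n t ≠ t := by
  haveI := hC.1; haveI := hC.2.1; haveI := hC.2.2.1; haveI := ht.1; haveI := ht.2.1
  obtain ⟨B, B', gB, gB', iB, iB', u, u', hB, hB', hu, hu', hdist⟩ := exists_two_borels hC ht hne
  obtain ⟨n, τ, σ, hτ, hσ⟩ := exists_normalizing ht hB hB' u hu u' hu'
  refine ⟨n, τ, hτ, fun h => hdist ?_⟩
  obtain ⟨s, hs⟩ := exists_lift_of_centralizes hC ht h
  haveI := hB.1; haveI := hB.2.1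
  haveI : IsAffine B.left := isAffine_of_isAffineHom iB.left
  obtain ⟨κ, hκ⟩ := exists_conjIso (G := B) (s ≫ u)
  refine ⟨κ.symm ≪≫ σ, ?_⟩
  rw [Iso.trans_hom, Category.assoc, hσ, Iso.symm_hom, Iso.inv_comp_eq, ← Category.id_comp κ.hom, hκ,
    conjBy_comp, Category.id_comp, Category.assoc, hu, hs]

/-- the centralizer of a subtorus of codimension one has dimension at most two more than the torus -/
theorem dim_centralizer_le {G C : Over SK} [GrpObj G] [GrpObj C] (hG : Red.IsReductiveOver k G) {r : ℕ}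
    {iT : TT k r ⟶ G} (hT : AGF.IsMaxTorus iT) {r' : ℕ} (p : (Fin r → ℤ) →+ (Fin r' → ℤ))
    (hp : Function.Surjective p) {a₀ : Fin r → ℤ} (ha₀ : a₀ ≠ 0) (hker : ∀ x, p x = 0 ↔ ∃ q : ℤ, x = q • a₀)
    {c : C ⟶ G} (hc : Red.IsCentralizerOf (dP k p ≫ iT) c) :
    topologicalKrullDim C.left ≤ ((r + 2 : ℕ) : WithBot ℕ∞) := by
  haveI := hG.1; haveI := hG.2.1; haveI := hG.2.2.1
  haveI := hT.1; haveI := hT.2.1
  haveI := isClosedImmersion_dP k p hp
  haveI : Mono (dP k p) := Groth.L08.mono_of_closedImmersion _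
  let iS : TT k r' ⟶ G := dP k p ≫ iT
  haveI : IsMonHom iS := inferInstanceAs (IsMonHom (dP k p ≫ iT))
  haveI : Mono iS := inferInstanceAs (Mono (dP k p ≫ iT))
  have hSt := isTorus_TT k r'
  obtain ⟨hcc, hCa, hCs, hCc, -, hcen⟩ := centralizer_props (iT := iS) hSt hc
  haveI := hcc; haveI := hCa; haveI := hCs; haveI := hCc; haveI := hc.1; haveI := hc.2.1
  obtain ⟨hTa, hTs, hTc, -, hcomm⟩ := torus_props hT.2.2.1
  obtain ⟨t, ht⟩ := (hc.2.2 _ iT).2 fun X x h => by
    show (x ≫ iT) * (h ≫ dP k p ≫ iT) = (h ≫ dP k p ≫ iT) * (x ≫ iT)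
    simp only [← Category.assoc]
    rw [← MonObj.mul_comp, ← MonObj.mul_comp, hcomm]
  haveI : IsMonHom t := isMonHom_of_comp_mono t c iT ht
  haveI : Mono t := by haveI : Mono (t ≫ c) := ht ▸ hT.2.1; exact mono_of_mono t c
  have hC := Groth.L14.Luna.isReductiveOver_centralizer hG hSt hc
  have hmax : AGF.IsMaxTorus t := ⟨inferInstance, inferInstance, hT.2.2.1, fun T' _ j _ _ f hT' hf => by
    haveI : Mono (j ≫ c) := mono_comp _ _
    exact hT.2.2.2 T' (j ≫ c) f hT' (by rw [← Category.assoc, hf, ht])⟩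
  have hr : topologicalKrullDim (TT k r).left ≤ (r : WithBot ℕ∞) :=
    ((IsHomeomorph.topologicalKrullDim_eq _ (Scheme.homeoOfIso ((Over.forget _).mapIso
      (asIso (toDS k r)))).isHomeomorph).trans Groth.L08.Borel.dim_DS).le
  by_cases hne : IsIso t
  · haveI : IsIso t.left := inferInstanceAs (IsIso ((Over.forget _).map t))
    rw [← IsHomeomorph.topologicalKrullDim_eq _ (Scheme.homeoOfIso (asIso t.left)).isHomeomorph]
    exact hr.trans (by exact_mod_cast Nat.le_add_right r 2)
  obtain ⟨Z, gZ, zz, hzz⟩ := exists_centralizer_torus t hT.2.2.1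
  obtain ⟨-, -, -, -, ⟨tz, htz⟩, -⟩ := centralizer_props hT.2.2.1 hzz
  haveI := Groth.L14.Luna.isIso_of_centralizer_maxTorus hC hmax hzz tz htz
  let Δ : Groth.L14.Luna.SemiRank.Setup C (TT k r) t :=
    { M := Fin r → ℤ
      e := toDS k r
      isIso_e := inferInstance
      isMonHom_e := inferInstance
      r := r'
      φ := p
      a₀ := a₀
      ne := ha₀
      ker := hker
      max := hmax
      self_centralizing := fun g hg => by
        obtain ⟨w, hw⟩ := (hzz.2.2 _ g).2 fun X x h => by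
          have h1 := congrArg (h ≫ ·) hg
          simp only [AGF.conjBy, MonObj.comp_mul, GrpObj.comp_inv, ← Category.assoc] at h1
          rw [toUnit_unique (h ≫ toUnit (TT k r)) x] at h1
          rw [mul_inv_eq_iff_eq_mul] at h1
          exact h1
        exact ⟨w ≫ inv tz, by rw [Category.assoc, ← htz, IsIso.inv_hom_id_assoc, hw]⟩
      central := fun g => by
        have e : Red.DSmap _ p ≫ inv (toDS k r) = inv (toDS k r') ≫ dP k p := by
          rw [IsIso.eq_inv_comp, ← Category.assoc, IsIso.comp_inv_eq, dP_toDS]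
        rw [← Category.assoc, e, Category.assoc, ← comp_conjBy]
        congr 1
        rw [← cancel_mono c, conjBy_comp, Category.assoc, ht]
        simp only [AGF.conjBy]
        have h1 := hcen (TT k r') (toUnit _ ≫ g) (𝟙 _)
        rw [Category.id_comp, Category.assoc] at h1
        rw [h1, mul_inv_cancel_right] }
  exact dim_le_add_two hC Δ hne hr

/-- **criterion**: a group with a self-centralizing maximal torus is reductive when every line of characters is killed
by a subtorus with reductive centralizer -/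
theorem isReductiveOver_of_lines {G : Over SK} [GrpObj G] [IsAffine G.left] [Smooth G.hom] [ConnectedSpace G.left]
    {r : ℕ} {iT : TT k r ⟶ G} (hT : AGF.IsMaxTorus iT) (hZT : Red.IsCentralizerOf iT iT)
    (hline : ∀ a : Fin r → ℤ, a ≠ 0 → ∃ (r' : ℕ) (p : (Fin r → ℤ) →+ (Fin r' → ℤ)),
      Function.Surjective p ∧ p a = 0 ∧ ∀ (Z : Over SK) [GrpObj Z] (z : Z ⟶ G),
        Red.IsCentralizerOf (dP k p ≫ iT) z → Red.IsReductiveOver k Z) :
    Red.IsReductiveOver k G := by
  classical
  haveI := hT.1; haveI := hT.2.1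
  haveI : IsAffineHom G.hom := isAffineHom_of_isAffine _
  obtain ⟨A, _, _, ⟨eA⟩⟩ := Groth.L25.Bridge.exists_hopf (R := k) G
  let eq : G ≅ P k A := (Grp.forget _).mapIso eA
  haveI : IsMonHom eq.hom := eA.hom.hom.isMonHom_hom
  haveI : IsIso eq.hom := eq.isIso_hom
  obtain ⟨hft, -⟩ := smooth_props eq.hom
  haveI := hft
  haveI : IsMonHom (Iso.refl (TT k r)).hom := inferInstanceAs (IsMonHom (𝟙 (TT k r)))
  haveI : IsMonHom (Iso.refl (TT k r)).inv := inferInstanceAs (IsMonHom (𝟙 (TT k r)))
  obtain ⟨φ, hφ⟩ := exists_sp ((Iso.refl (TT k r)).hom ≫ iT ≫ eq.hom)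
  let D : Coords G (TT k r) iT := { r := r, A := A, eq := eq, e := Iso.refl _, φ := φ, hφ := hφ }
  refine ⟨inferInstance, inferInstance, inferInstance, fun U _ u _ huc hUs hUc hun hns => ?_⟩
  haveI := huc; haveI := hUs; haveI := hUc
  haveI : IsAffine U.left := isAffine_of_isAffineHom u.left
  haveI : Mono u := Groth.L08.mono_of_closedImmersion u
  haveI : QuasiCompact U.hom := quasiCompact_of_compactSpace _
  refine Groth.L14.Luna.isTrivialGrp_of_id_eq_one ?_
  by_cases hw : ∀ a, a ≠ 0 → Wt D.φ a = ⊥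
  · haveI := isIso_of_no_weight D hT hZT hw
    haveI : IsMonHom (inv iT) := inferInstanceAs (IsMonHom (asIso iT).inv)
    have h1 : u ≫ inv iT = 1 :=
      Groth.L14.Luna.hom_torus_eq_one (Groth.L14.Luna.isSolvableGrp_of_noSubtorus U hns) hns hT.2.2.1 _
    rw [← cancel_mono (u ≫ inv iT), Category.id_comp, h1, MonObj.comp_one]
  push Not at hw
  obtain ⟨a₁, ha₁, hW₁⟩ := hw
  refine id_eq_one_of_traces D ha₁ hW₁ u hun fun a ha _ => ?_
  obtain ⟨r', p, hp, hpa, hred⟩ := hline a ha
  refine ⟨r', p, hpa, fun X x hx => ?_⟩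
  haveI := isClosedImmersion_dP k p hp
  haveI : Mono (dP k p) := Groth.L08.mono_of_closedImmersion _
  haveI : IsMonHom (dP k p ≫ iT) := inferInstance
  haveI : Mono (dP k p ≫ iT) := mono_comp _ _
  have hjS := isTorus_TT k r'
  obtain ⟨Z, gZ, z, hz⟩ := exists_centralizer_torus (dP k p ≫ iT) hjS
  obtain ⟨hzc, hZa, hZs, hZc, -, -⟩ := centralizer_props hjS hz
  haveI := hzc; haveI := hZa; haveI := hZs; haveI := hZc; haveI := hz.1; haveI := hz.2.1
  have hZred := hred Z z hz
  have hpb : IsPullback (pullback.fst u z) (pullback.snd u z) u z := IsPullback.of_hasPullback _ _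
  haveI : Mono (pullback.fst u z) := inferInstance
  obtain ⟨gV, hVm⟩ := Groth.L14.Luna.exists_grpObj_pullback hpb
  letI := gV
  haveI := hVm
  haveI : IsMonHom (pullback.snd u z) :=
    isMonHom_of_comp_mono (pullback.snd u z) z (pullback.fst u z ≫ u) hpb.w.symm
  obtain ⟨hVs, hVc⟩ := Groth.L14.Luna.smooth_connected_trace hjS hz u hun hpb
  haveI := hVs; haveI := hVc
  haveI : IsClosedImmersion (pullback.snd u z).left :=
    MorphismProperty.of_isPullback (P := @IsClosedImmersion) (hpb.map (Over.forget _)) ‹IsClosedImmersion u.left›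
  have hVn : AlgGrp.IsNormalHom (pullback.snd u z) := by
    intro Y g y
    obtain ⟨w, hw⟩ := hun Y (g ≫ z) (y ≫ pullback.fst u z)
    have e : w ≫ u = (g * (y ≫ pullback.snd u z) * g⁻¹) ≫ z := by
      rw [← hw, MonObj.mul_comp, MonObj.mul_comp, GrpObj.inv_comp]
      simp only [Category.assoc, hpb.w]
    exact ⟨hpb.lift w _ e, (hpb.lift_snd _ _ _).symm⟩
  have hV1 : 𝟙 _ = (1 : pullback u z ⟶ pullback u z) := Groth.L14.Luna.id_eq_one_of_isTrivialGrp
    (hZred.2.2.2 _ (pullback.snd u z) inferInstance hVs hVc hVn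
      (Groth.L14.Luna.hasNoSubtorus_of_mono (pullback.fst u z) hns))
  obtain ⟨y, hy⟩ := (hz.2.2 X (x ≫ u)).2 fun Y y s => by
    have h := hx Y y s
    simp only [D, Iso.refl_hom, Category.id_comp] at h
    exact h
  have hl : hpb.lift x y hy.symm = 1 := by rw [← Category.comp_id (hpb.lift x y hy.symm), hV1, MonObj.comp_one]
  rw [← hpb.lift_fst x y hy.symm, hl, MonObj.one_comp]

end Groth.L25.RedOpen
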