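import Groth.Agent.L25.RedOpen.Fibre
import Groth.Agent.L08.Borel.RedRank
import Groth.Agent.L08.Borel.SmoothDim

/-!
# The centralizer of a singular subtorus stays reductive nearby
-/

set_option autoImplicit false
set_option linter.unusedSectionVars false
set_option linter.style.haveILetI false
set_option backward.isDefEq.respectTransparency.types false
set_option maxHeartbeats 1000000

universe u

open CategoryTheory CategoryTheory.Limits MonoidalCategory CartesianMonoidalCategory MonObj GrpObj AlgebraicGeometry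
open Groth.L06.CoxeterElt Groth.L06.RootLines Groth.L08.Borel

noncomputable section

namespace Groth.L25.RedOpen

variable {S : Scheme.{u}} {G : Over S} [GrpObj G] [IsAffineHom G.hom] [Smooth G.hom] {r r' : ℕ}

/-- facts about the centralizer of a subtorus in a fibre -/
theorem centralizer_fibre_props (hconn : ∀ s : S, _root_.IsConnected (G.hom.base ⁻¹' {s}))
    (i : Red.DS S (Fin r → ℤ) ⟶ G) [IsMonHom i] [Mono i] (hi : Red.IsCentralizerOf i i)
    (p : (Fin r → ℤ) →+ (Fin r' → ℤ)) (hp : Function.Surjective p) {Z : Over S} [GrpObj Z] {z : Z ⟶ G}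
    (hz : Red.IsCentralizerOf (Red.DSmap S p ≫ i) z) {t₁ : Red.DS S (Fin r → ℤ) ⟶ Z} (ht₁ : t₁ ≫ z = i)
    {K : Type u} [Field K] [IsAlgClosed K] (b : Spec (CommRingCat.of K) ⟶ S) :
    IsAffine (Red.bc b Z).left ∧ Smooth (Red.bc b Z).hom ∧ ConnectedSpace (Red.bc b Z).left ∧
      IsClosedImmersion (iTb b t₁).left ∧ AGF.IsMaxTorus (iTb b t₁) := by
  obtain ⟨ha, hs, hq, hsep, hcs⟩ := Groth.L08.Borel.fibre_props hconn b
  haveI := ha; haveI := hs; haveI := hq; haveI := hsep; haveI := hcs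
  haveI := hz.1; haveI := hz.2.1
  haveI := isClosedImmersion_dP K p hp
  haveI : Mono (dP K p) := Groth.L08.mono_of_closedImmersion _
  haveI := isMonHom_iTb b i
  haveI := mono_iTb b i
  haveI : IsMonHom t₁ := Groth.L25.SplitSub.isMonHom_of_comp_mono t₁ z (by rw [ht₁]; infer_instance)
  haveI := isMonHom_iTb b t₁
  let iS : TT K r' ⟶ Red.bc b G := dP K p ≫ iTb b i
  haveI : IsMonHom iS := inferInstanceAs (IsMonHom (dP K p ≫ iTb b i))
  haveI : Mono iS := inferInstanceAs (Mono (dP K p ≫ iTb b i))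
  obtain ⟨hzc, hZa, hZs, hZc, -, -⟩ :=
    centralizer_props (iT := iS) (isTorus_TT K r') (centralizer_fibre b i p hz)
  haveI := hzc; haveI := hZa; haveI := hZs; haveI := hZc
  haveI : IsMonHom ((Over.pullback b).map z) := (centralizer_fibre b i p hz).1
  haveI : Mono ((Over.pullback b).map z) := Functor.map_mono _ _
  have he : iTb b t₁ ≫ (Over.pullback b).map z = iTb b i := by rw [iTb_comp, ht₁]
  haveI : Mono (iTb b t₁) := by
    haveI : Mono (iTb b t₁ ≫ (Over.pullback b).map z) := he ▸ mono_iTb b i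
    exact mono_of_mono _ ((Over.pullback b).map z)
  have hmax := isMaxTorus_of_selfCentral (isTorus_TT K r) (selfCentral_fibre b i hi)
  refine ⟨hZa, hZs, hZc, ?_, inferInstance, inferInstance, isTorus_TT K r, fun T' _ j _ _ f hT' hf => ?_⟩
  · haveI : IsClosedImmersion ((iTb b t₁).left ≫ ((Over.pullback b).map z).left) := by
      rw [← Over.comp_left, he]
      exact Groth.L25.MonoClosed.isClosedImmersion_of_mono
        (Groth.L25.Locus.isMultTypeFT_of_isTorus (isTorus_TT K r)) (iTb b i)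
    exact IsClosedImmersion.of_comp _ ((Over.pullback b).map z).left
  · haveI : Mono (j ≫ (Over.pullback b).map z) := mono_comp _ _
    exact hmax.2.2.2 T' (j ≫ (Over.pullback b).map z) f hT' (by rw [← Category.assoc, hf, he])

/-- **the centralizer of a subtorus of codimension one stays reductive on a neighbourhood** -/
theorem exists_nhd_line (hconn : ∀ s : S, _root_.IsConnected (G.hom.base ⁻¹' {s}))
    (i : Red.DS S (Fin r → ℤ) ⟶ G) [IsMonHom i] [Mono i] (hi : Red.IsCentralizerOf i i)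
    (p : (Fin r → ℤ) →+ (Fin r' → ℤ)) (hp : Function.Surjective p) {a₀ : Fin r → ℤ} (ha₀ : a₀ ≠ 0)
    (hker : ∀ x, p x = 0 ↔ ∃ q : ℤ, x = q • a₀) {K₀ : Type u} [Field K₀] [IsAlgClosed K₀]
    (b₀ : Spec (CommRingCat.of K₀) ⟶ S) (h₀ : Red.IsReductiveOver K₀ (Red.bc b₀ G)) :
    ∃ U : S.Opens, b₀ (IsLocalRing.closedPoint K₀) ∈ U ∧
      ∀ (K : Type u) [Field K] [IsAlgClosed K] (b : Spec (CommRingCat.of K) ⟶ S),
        b (IsLocalRing.closedPoint K) ∈ U → ∀ (C : Over (Spec (CommRingCat.of K))) [GrpObj C]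
          (c : C ⟶ Red.bc b G), Red.IsCentralizerOf (dP K p ≫ iTb b i) c → Red.IsReductiveOver K C := by
  haveI : IsMonHom (Red.DSmap S p ≫ i) := inferInstance
  obtain ⟨Z, gZ, z, hz, hzc, hZs⟩ := Groth.L25.Locus.exists_smooth_centralizer
    (Groth.L25.Locus.locally_of_multTypeFT (Groth.L25.Locus.isMultTypeFT_of_isTorus
      (Groth.L08.Borel.isTorus_ds S r'))) (Red.DSmap S p ≫ i)
  haveI := hZs; haveI := hzc; haveI := hz.1; haveI := hz.2.1
  haveI : IsSeparated Z.hom := by rw [← Over.w z]; infer_instance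
  obtain ⟨t₁, ht₁⟩ := (hz.2.2 _ i).2 fun X x h => by
    rw [← Category.assoc, ← MonObj.mul_comp, ← MonObj.mul_comp]
    congr 1
    exact DSPts.char_injective (by rw [DSPts.char_mul, DSPts.char_mul, mul_comm])
  haveI : IsMonHom t₁ := Groth.L25.SplitSub.isMonHom_of_comp_mono t₁ z (by rw [ht₁]; infer_instance)
  obtain ⟨U₁, d, hU₁, hd⟩ := Groth.L08.Borel.exists_open_fibre_dim Z (b₀ (IsLocalRing.closedPoint K₀))
  -- reduce to the base change of the centralizer
  suffices H : ∃ U : S.Opens, b₀ (IsLocalRing.closedPoint K₀) ∈ U ∧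
      ∀ (K : Type u) [Field K] [IsAlgClosed K] (b : Spec (CommRingCat.of K) ⟶ S),
        b (IsLocalRing.closedPoint K) ∈ U → Red.IsReductiveOver K (Red.bc b Z) by
    obtain ⟨U, hU, h⟩ := H
    refine ⟨U, hU, fun K _ _ b hb C _ c hc => ?_⟩
    obtain ⟨e, -, -, he, -⟩ := Groth.L08.TorusWeights.exists_iso_centralizer (centralizer_fibre b i p hz) hc
    haveI := he
    exact isReductiveOver_of_iso e (h K b hb)
  have hlow : ∀ (K : Type u) [Field K] [IsAlgClosed K] (b : Spec (CommRingCat.of K) ⟶ S),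
      b (IsLocalRing.closedPoint K) ∈ U₁ → d = r → Red.IsReductiveOver K (Red.bc b Z) := by
    intro K _ _ b hb hdr
    obtain ⟨hZa, hZs', hZc, htc, hmax⟩ := centralizer_fibre_props hconn i hi p hp hz ht₁ b
    haveI := hZa; haveI := hZs'; haveI := hZc; haveI := htc; haveI := hmax.1
    haveI := Groth.L19.AlgGrpBasic.isIso_of_dim_eq (iTb b t₁) (by rw [dim_TT, hd K b hb, hdr])
    haveI : IsMonHom (asIso (iTb b t₁)).hom := hmax.1
    exact isReductiveOver_of_iso (asIso (iTb b t₁)) (isReductiveOver_torus (isTorus_TT K r))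
  by_cases hdr : d = r
  · exact ⟨U₁, hU₁, fun K _ _ b hb => hlow K b hb hdr⟩
  obtain ⟨hZa, hZs', hZc, htc, hmax⟩ := centralizer_fibre_props hconn i hi p hp hz ht₁ b₀
  haveI := hZa; haveI := hZs'; haveI := hZc; haveI := hmax.1; haveI := hmax.2.1
  haveI := isMonHom_iTb b₀ i; haveI := mono_iTb b₀ i
  haveI := isClosedImmersion_dP K₀ p hp
  haveI : Mono (dP K₀ p) := Groth.L08.mono_of_closedImmersion _
  haveI : Mono (dP K₀ p ≫ iTb b₀ i) := mono_comp _ _
  have hC₀ := Groth.L14.Luna.isReductiveOver_centralizer h₀ (iS := dP K₀ p ≫ iTb b₀ i) (isTorus_TT K₀ r')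
    (centralizer_fibre b₀ i p hz)
  have hdim : d ≤ r + 2 := by
    have h := dim_centralizer_le h₀ (isMaxTorus_of_selfCentral (isTorus_TT K₀ r) (selfCentral_fibre b₀ i hi)) p hp
      ha₀ hker (centralizer_fibre b₀ i p hz)
    rw [hd K₀ b₀ hU₁] at h
    exact_mod_cast h
  -- a point of the Weyl group
  have hne : ¬ IsIso (iTb b₀ t₁) := fun h => hdr (by
    haveI : IsIso (iTb b₀ t₁).left := inferInstanceAs (IsIso ((Over.forget _).map (iTb b₀ t₁)))
    have h1 := IsHomeomorph.topologicalKrullDim_eq _ (Scheme.homeoOfIso (asIso (iTb b₀ t₁).left)).isHomeomorph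
    rw [dim_TT, hd K₀ b₀ hU₁] at h1
    exact_mod_cast h1.symm)
  obtain ⟨n, τ, hτ, hn1⟩ := exists_weyl_point hC₀ hmax hne
  obtain ⟨θ, hθ⟩ := exists_acts hτ
  have hθ1 : θ ≠ AddMonoidHom.id _ := fun h => hn1 (by rw [hθ, h, dP_id, Category.id_comp])
  -- a smooth transporter
  obtain ⟨W, iW, -, hWs, hW⟩ := Groth.L25.Locus.exists_smooth_transporter
    (Groth.L25.Locus.locally_of_multTypeFT (Groth.L25.Locus.isMultTypeFT_of_isTorus
      (Groth.L08.Borel.isTorus_ds S r))) t₁ (Red.DSmap S θ ≫ t₁)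
  haveI := hWs
  let c₁ : Over.mk b₀ ⟶ Over.mk ((𝟙_ (Over (Spec (CommRingCat.of K₀)))).hom ≫ b₀) :=
    Over.homMk (𝟙 _) (by
      show 𝟙 _ ≫ 𝟙 _ ≫ b₀ = b₀
      rw [Category.id_comp, Category.id_comp])
  let x₀ : Over.mk b₀ ⟶ Z := c₁ ≫ NilAction.toBase b₀ n
  have hx₀ : Locus.sectionOf b₀ x₀ = n := by
    refine Eq.trans ?_ (NilAction.ofBase_toBase b₀ n)
    show NilAction.ofBase b₀ _ = _
    congr 1
  obtain ⟨w₀, hw₀⟩ := (hW _ x₀).2 (transports_of_conjBy t₁ (Red.DSmap S θ ≫ t₁) b₀ x₀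
    (by rw [hx₀]; exact (acts_iff b₀ t₁ n θ).1 hθ))
  have hs : W.hom (w₀.left (IsLocalRing.closedPoint K₀)) = b₀ (IsLocalRing.closedPoint K₀) := by
    rw [← Scheme.Hom.comp_apply, Over.w w₀]
    rfl
  obtain ⟨S', e, s', h, he, hes, hh⟩ :=
    Groth.L24.Boot.exists_etale_nhd_section W.hom (w₀.left (IsLocalRing.closedPoint K₀))
  haveI := he
  refine ⟨U₁ ⊓ ⟨Set.range e.base, e.isOpenMap.isOpen_range⟩, ⟨hU₁, ⟨s', hes.trans hs⟩⟩, fun K _ _ b hb => ?_⟩
  obtain ⟨hb₁, y, hy⟩ := hb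
  obtain ⟨σ, hσ⟩ := Groth.L08.Borel.exists_pt_lift_etale e b y hy
  let w : Over.mk b ⟶ W := Over.homMk (σ ≫ h) (by rw [Category.assoc, hh]; exact hσ)
  obtain ⟨hZa', hZs'', hZc', -, hmax'⟩ := centralizer_fibre_props hconn i hi p hp hz ht₁ b
  haveI := hZa'; haveI := hZs''; haveI := hZc'
  exact isReductiveOver_rankOne hmax' (by rw [hd K b hb₁]; exact_mod_cast hdim)
    ((acts_iff b t₁ _ θ).2 (conjBy_of_transports t₁ (Red.DSmap S θ ≫ t₁) b _ ((hW _ (w ≫ iW)).1 ⟨w, rfl⟩))) hθ1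

end Groth.L25.RedOpen
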