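import Groth.Agent.L08.TorusWeights.Basic
import Groth.Agent.L08.TorusWeights.Radical
import Groth.Agent.L25.Locus.Transporter
import Groth.Agent.L25.Locus.Torus
import Groth.Agent.L08.Borel.RedRankTorus

/-!
# Finitely many lines of characters occur in a group with a self-centralizing split torus
-/

set_option autoImplicit false
set_option backward.isDefEq.respectTransparency.types false
set_option linter.style.haveILetI false
set_option linter.unusedSectionVars false
set_option maxHeartbeats 1000000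
universe u

open CategoryTheory CategoryTheory.Limits MonoidalCategory CartesianMonoidalCategory MonObj AlgebraicGeometry

noncomputable section

namespace Groth.L25.RedOpen

open Groth.L25
open Groth.L08.TorusWeights

variable {S : Scheme.{u}} {G : Over S} [GrpObj G] [IsAffine G.left] {M : Type} [AddCommGroup M]
  (i : Red.DS S M ⟶ G) [IsMonHom i]

/-- **points commuting with a subtorus kill the weights outside its kernel** -/
theorem weight_kills_of_commute {M' : Type} [AddCommGroup M'] (φ : M →+ M') {Y₀ : Over S} [IsAffine Y₀.left]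
    (g₀ : Y₀ ⟶ G)
    (hc : ∀ (Y : Over S) (q : Y ⟶ Y₀) (z : Y ⟶ Red.DS S M'),
      (z ≫ Red.DSmap S φ ≫ i) * (q ≫ g₀) = (q ≫ g₀) * (z ≫ Red.DSmap S φ ≫ i))
    (a : Γ(G.left, ⊤)) (m : M) (hm : φ m ≠ 0) :
    g₀.left.appTop.hom ((co i a).coeff (Multiplicative.ofAdd m)) = 0 := by
  classical
  let A₀ := Γ(Y₀.left, ⊤)
  let C := MonoidAlgebra A₀ (Multiplicative M × Multiplicative M')
  let one' : CommRingCat.of A₀ ⟶ CommRingCat.of C :=
    CommRingCat.ofHom (MonoidAlgebra.singleOneRingHom : A₀ →+* C)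
  let Y : Over S := Over.mk (Spec.map one' ≫ Y₀.left.isoSpec.inv ≫ Y₀.hom)
  let q : Y ⟶ Y₀ := Over.homMk (Spec.map one' ≫ Y₀.left.isoSpec.inv) (Category.assoc _ _ _)
  let γ : C →+* Γ(Y.left, ⊤) := (Scheme.ΓSpecIso (CommRingCat.of C)).inv.hom
  have hγ : Function.Injective γ := ((Scheme.ΓSpecIso (CommRingCat.of C)).symm.commRingCatIsoToRingEquiv).injective
  let t : Y ⟶ Red.DS S M := DSPts.pt (γ.toMonoidHom.comp
    ((MonoidAlgebra.of A₀ _).comp (MonoidHom.inl (Multiplicative M) (Multiplicative M'))))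
  let z : Y ⟶ Red.DS S M' := DSPts.pt (γ.toMonoidHom.comp
    ((MonoidAlgebra.of A₀ _).comp (MonoidHom.inr (Multiplicative M) (Multiplicative M'))))
  let z' : Y ⟶ Red.DS S M := z ≫ Red.DSmap S φ
  have hz' : DSPts.char z' = γ.toMonoidHom.comp ((MonoidAlgebra.of A₀ _).comp
      ((MonoidHom.inr (Multiplicative M) (Multiplicative M')).comp φ.toMultiplicative)) := by
    rw [show z' = z ≫ Red.DSmap S φ from rfl, SplitSub.char_DSmap, DSPts.char_pt]
    rfl
  let g : Y ⟶ G := q ≫ g₀
  have hq : ∀ x : Γ(Y₀.left, ⊤), q.left.appTop.hom x = γ (MonoidAlgebra.single 1 x) := fun x => by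
    have h2 : q.left.appTop = one' ≫ (Scheme.ΓSpecIso (CommRingCat.of C)).inv := by
      have e : (Spec.map one' ≫ Y₀.left.isoSpec.inv) ≫ Y₀.left.toSpecΓ = Spec.map one' := by
        rw [Category.assoc, show Y₀.left.isoSpec.inv ≫ Y₀.left.toSpecΓ = 𝟙 _ from Y₀.left.isoSpec.inv_hom_id]
        exact Category.comp_id _
      have e2 := congrArg Scheme.Hom.appTop e
      rw [Scheme.Hom.comp_appTop, Scheme.toSpecΓ_appTop] at e2
      rw [Scheme.ΓSpecIso_inv_naturality, ← cancel_epi (Scheme.ΓSpecIso (CommRingCat.of A₀)).hom, Iso.hom_inv_id_assoc]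
      exact e2
    exact congrArg (fun f => f.hom x) h2
  have key : ((t * z') ≫ i) * g * ((t * z') ≫ i)⁻¹ = (t ≫ i) * g * (t ≫ i)⁻¹ := by
    rw [MonObj.mul_comp, _root_.mul_inv_rev,
      show (t ≫ i) * (z' ≫ i) * g = (t ≫ i) * g * (z' ≫ i) by
        rw [_root_.mul_assoc, _root_.mul_assoc]
        simp only [z', Category.assoc]
        rw [show g = q ≫ g₀ from rfl, hc Y q z]]
    group
  have h := congrArg (fun f => f.left.appTop.hom a) key
  simp only [conj_appTop, ev_eq_sum, DSPts.char_mul, MonoidHom.mul_apply, hz', t, DSPts.char_pt] at h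
  simp only [g, Over.comp_left, Scheme.Hom.comp_appTop, CommRingCat.comp_apply, hq, RingHom.toMonoidHom_eq_coe,
    MonoidHom.coe_comp, MonoidHom.coe_coe, Function.comp_apply, MonoidAlgebra.of_apply] at h
  simp only [← map_mul, Finsupp.sum, ← map_sum, MonoidHom.inl_apply,
    MonoidHom.inr_apply] at h
  have h₂ := hγ h
  have e1 : ∀ (x : Multiplicative M) (y : Multiplicative M') (b : A₀),
      (MonoidAlgebra.single 1 b * (MonoidAlgebra.single (x, 1) 1 * MonoidAlgebra.single (1, y) 1) :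
        MonoidAlgebra A₀ (Multiplicative M × Multiplicative M')) = MonoidAlgebra.single (x, y) b := by
    intro x y b; simp [MonoidAlgebra.single_mul_single]
  have e2 : ∀ (x : Multiplicative M) (b : A₀),
      (MonoidAlgebra.single 1 b * MonoidAlgebra.single (x, 1) 1 :
        MonoidAlgebra A₀ (Multiplicative M × Multiplicative M')) = MonoidAlgebra.single (x, 1) b := by
    intro x b; simp [MonoidAlgebra.single_mul_single]
  rw [Finset.sum_congr rfl fun x _ => e1 x _ _, Finset.sum_congr rfl fun x _ => e2 x _] at h₂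
  have h' := congrArg (fun x : MonoidAlgebra A₀ (Multiplicative M × Multiplicative M') =>
    x.coeff (Multiplicative.ofAdd m, Multiplicative.ofAdd (φ m))) h₂
  have hne : Multiplicative.ofAdd (φ m) ≠ (1 : Multiplicative M') := fun e => hm (Multiplicative.ofAdd.injective e)
  simp only [MonoidAlgebra.coeff_sum, Finsupp.coe_finsetSum, Finset.sum_apply, MonoidAlgebra.coeff_single,
    Finsupp.single_apply, Prod.mk.injEq] at h'
  rw [Finset.sum_eq_single (Multiplicative.ofAdd m), Finset.sum_eq_zero] at h'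
  · simpa using h'
  · intro x _
    rw [if_neg]
    rintro ⟨rfl, e⟩
    exact hne e.symm
  · intro x _ hx
    rw [if_neg fun e => hx e.1]
  · intro hx
    simp [Finsupp.notMem_support_iff.1 hx]


/-- **finitely many lines**: outside finitely many characters the centralizer of a subtorus is the torus -/
theorem exists_finset_lines [IsAffine S] [LocallyOfFiniteType G.hom] (hi : Red.IsCentralizerOf i i) :
    ∃ F : Finset M, (∀ m ∈ F, m ≠ 0) ∧ ∀ (r' : ℕ) (p : M →+ (Fin r' → ℤ)), (∀ m ∈ F, p m ≠ 0) →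
      Red.IsCentralizerOf (Red.DSmap S p ≫ i) i := by
  classical
  letI alg : Algebra Γ(S, ⊤) Γ(G.left, ⊤) := G.hom.appTop.hom.toAlgebra
  have hft : Algebra.FiniteType Γ(S, ⊤) Γ(G.left, ⊤) :=
    HasRingHomProperty.appTop (P := @LocallyOfFiniteType) G.hom ‹_›
  obtain ⟨gens, hgens⟩ := hft.out
  let F : Finset M := (gens.biUnion fun a => (co i a).coeff.support.image Multiplicative.toAdd).filter (· ≠ 0)
  refine ⟨F, fun m hm => (Finset.mem_filter.1 hm).2, fun r' p hp => ?_⟩
  have hGaff : IsAffineHom G.hom := isAffineHom_of_isAffine _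
  -- the torus commutes with the subtorus
  have hT : ∀ (Y : Over S) (x : Y ⟶ Red.DS S M) (z : Y ⟶ Red.DS S (Fin r' → ℤ)),
      (x ≫ i) * (z ≫ Red.DSmap S p ≫ i) = (z ≫ Red.DSmap S p ≫ i) * (x ≫ i) := by
    intro Y x z
    rw [← Category.assoc, ← MonObj.mul_comp, ← MonObj.mul_comp]
    congr 1
    exact DSPts.char_injective (by rw [DSPts.char_mul, DSPts.char_mul, mul_comm])
  refine ⟨inferInstance, hi.2.1, fun X g => ⟨?_, fun hg => ?_⟩⟩
  · rintro ⟨x, rfl⟩ Y y z
    rw [← Category.assoc]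
    exact hT Y (y ≫ x) z
  -- a universal commuting point
  obtain ⟨Z, gZ, j, hj, hjc, -, -⟩ := Groth.L25.Locus.exists_centralizer
    (H := Red.DS S (Fin r' → ℤ)) (Groth.L25.Locus.locally_of_multTypeFT (Groth.L25.Locus.isMultTypeFT_of_isTorus
      (Groth.L08.Borel.isTorus_ds S r'))) (Red.DSmap S p ≫ i)
  haveI := hjc
  haveI : IsAffine Z.left := isAffine_of_isAffineHom j.left
  obtain ⟨w, hw⟩ := (hj.2.2 X g).2 hg
  have hjT : ∃ t, t ≫ i = j := by
    refine (hi.2.2 Z j).2 fun Y y t => ?_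
    have hcom : ∀ (Y' : Over S) (q : Y' ⟶ Z) (z : Y' ⟶ Red.DS S (Fin r' → ℤ)),
        (z ≫ Red.DSmap S p ≫ i) * (q ≫ j) = (q ≫ j) * (z ≫ Red.DSmap S p ≫ i) := fun Y' q z =>
      ((hj.2.2 Z j).1 ⟨𝟙 Z, Category.id_comp j⟩ Y' q z).symm
    -- conjugation agrees with the point on generators
    have key : (t ≫ i) * (y ≫ j) * (t ≫ i)⁻¹ = y ≫ j := by
      refine Over.OverMorphism.ext (ext_of_isAffine (CommRingCat.hom_ext ?_))
      let l : Γ(S, ⊤) →+* Γ(Y.left, ⊤) := Y.hom.appTop.hom
      letI : Algebra Γ(S, ⊤) Γ(Y.left, ⊤) := l.toAlgebra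
      let mk : ∀ f : Y ⟶ G, Γ(G.left, ⊤) →ₐ[Γ(S, ⊤)] Γ(Y.left, ⊤) := fun f =>
        { f.left.appTop.hom with
          commutes' := fun c => congrArg (fun φ : Y.left ⟶ S => φ.appTop.hom c) (Over.w f) }
      have h : mk ((t ≫ i) * (y ≫ j) * (t ≫ i)⁻¹) = mk (y ≫ j) := by
        refine AlgHom.ext_of_adjoin_eq_top hgens fun a ha => ?_
        show ((t ≫ i) * (y ≫ j) * (t ≫ i)⁻¹).left.appTop.hom a = (y ≫ j).left.appTop.hom a
        rw [conj_appTop, ev_eq_sum, ← sum_co i (y ≫ j) a]
        refine Finsupp.sum_congr fun m hm => ?_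
        by_cases hm0 : Multiplicative.toAdd m = 0
        · have hm1 : m = 1 := hm0
          subst hm1
          rw [map_one (DSPts.char t), _root_.mul_one]
        have hmF : Multiplicative.toAdd m ∈ F :=
          Finset.mem_filter.2 ⟨Finset.mem_biUnion.2 ⟨a, ha, Finset.mem_image_of_mem _ hm⟩, hm0⟩
        have h0 : j.left.appTop.hom ((co i a).coeff m) = 0 :=
          weight_kills_of_commute i p j hcom a (Multiplicative.toAdd m) (hp _ hmF)
        rw [Over.comp_left, Scheme.Hom.comp_appTop, CommRingCat.comp_apply, h0, map_zero, zero_mul]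
      exact RingHom.ext fun a => DFunLike.congr_fun h a
    exact (mul_inv_eq_iff_eq_mul.1 key).symm
  obtain ⟨t, ht⟩ := hjT
  exact ⟨w ≫ t, by rw [Category.assoc, ht, hw]⟩

end Groth.L25.RedOpen
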