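import Groth.Agent.L25.RedOpen.Split
import Groth.Agent.L08.MonoRed.Setup
import Groth.Agent.L08.TorusWeights.CentNhd
import Groth.Agent.L25.Extension.ConnBC

/-!
# The reductive locus is open
-/

set_option autoImplicit false
set_option linter.unusedSectionVars false
set_option linter.style.haveILetI false
set_option backward.isDefEq.respectTransparency.types false
set_option maxHeartbeats 1000000

universe u

open CategoryTheory CategoryTheory.Limits MonoidalCategory CartesianMonoidalCategory MonObj GrpObj AlgebraicGeometry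

noncomputable section

namespace Groth.L25.RedOpen

variable {S : Scheme.{u}} {G : Over S} [GrpObj G]

theorem reductive_bcComp_iff {P : Scheme.{u}} (j : P ⟶ S) {K : Type u} [Field K] [IsAlgClosed K]
    (b : Spec (CommRingCat.of K) ⟶ P) {b' : Spec (CommRingCat.of K) ⟶ S} (hb : b ≫ j = b') :
    Red.IsReductiveOver K (Red.bc b (Red.bc j G)) ↔ Red.IsReductiveOver K (Red.bc b' G) :=
  ⟨fun h => Groth.L14.RedLR.isReductiveOver_congr (Grp.mkIso' (ActBC.bcCompIso b j G hb)) h,
    fun h => Groth.L14.RedLR.isReductiveOver_congr (Grp.mkIso' (ActBC.bcCompIso b j G hb)).symm h⟩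

/-- reductivity of the geometric fibre passes to every field point over it -/
theorem isReductiveOver_of_geomFibre {K : Type u} [Field K] [IsAlgClosed K] (b : Spec (CommRingCat.of K) ⟶ S)
    {s : S} (hb : b (IsLocalRing.closedPoint K) = s)
    (h : Red.IsReductiveOver (AlgebraicClosure (S.residueField s)) (Red.geomFibre s G)) :
    Red.IsReductiveOver K (Red.bc b G) := by
  obtain ⟨⟨s₁, f⟩, rfl⟩ := (Scheme.SpecToEquivOfField K S).symm.surjective b
  obtain rfl : s₁ = s := by
    rw [← hb]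
    show s₁ = (Spec.map f ≫ S.fromSpecResidueField s₁) _
    rw [Scheme.Hom.comp_apply]
    exact (Scheme.fromSpecResidueField_apply _ _).symm
  let κ := S.residueField s₁
  letI : Algebra κ K := f.hom.toAlgebra
  let φ : AlgebraicClosure κ →ₐ[κ] K := IsAlgClosed.lift
  have hθ : Spec.map (CommRingCat.ofHom φ.toRingHom) ≫ Red.geomPt s₁ =
      (Scheme.SpecToEquivOfField K S).symm ⟨s₁, f⟩ := by
    show _ ≫ Spec.map _ ≫ S.fromSpecResidueField s₁ = Spec.map f ≫ S.fromSpecResidueField s₁
    rw [← Category.assoc, ← Spec.map_comp]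
    congr 2
    exact CommRingCat.hom_ext (RingHom.ext fun x => φ.commutes x)
  exact (reductive_bcComp_iff (Red.geomPt s₁) _ hθ).1
    (Groth.L24.ReductiveBC.isReductiveOver_bc (Spec.map (CommRingCat.ofHom φ.toRingHom)) h)

variable [IsAffineHom G.hom] [Smooth G.hom]

/-- **reductive fibres spread out** -/
theorem exists_nhd_reductive (hconn : ∀ s : S, _root_.IsConnected (G.hom.base ⁻¹' {s})) (s : S)
    (h₀ : Red.IsReductiveOver (AlgebraicClosure (S.residueField s)) (Red.geomFibre s G)) :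
    ∃ U : S.Opens, s ∈ U ∧ ∀ (K : Type u) [Field K] [IsAlgClosed K] (b : Spec (CommRingCat.of K) ⟶ S),
      b (IsLocalRing.closedPoint K) ∈ U → Red.IsReductiveOver K (Red.bc b G) := by
  obtain ⟨B, _, v, hv, ⟨p, hp⟩, T, gT, i, hi, r, hsp, -⟩ :=
    Groth.L08.Borel.exists_split_maxTorus_nhd hconn s fun T' _ i' hi' X g hg => by
      obtain ⟨t, ht⟩ := ((Groth.L08.TorusWeights.selfCentral_of_reductiveOver h₀
        (Groth.L08.Borel.isMaxTorus_of_isMaximalTorus hi')).2.2 X g).2 hg
      exact ⟨t, ht.symm⟩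
  haveI := hv; haveI := hi.1; haveI := hi.2.1
  haveI : IsAffineHom (Red.bc v G).hom := inferInstanceAs (IsAffineHom (pullback.snd G.hom v))
  haveI : Smooth (Red.bc v G).hom := inferInstanceAs (Smooth (pullback.snd G.hom v))
  have hconn' := Groth.L25.Extension.isConnected_fibre_bc v G hconn
  -- the torus with standard coordinates
  obtain ⟨pT, -, hpT, -, -, -, hpiso⟩ := Groth.L25.SplitSub.exists_std hsp
  haveI := hpT; haveI := hpiso
  let i₁ : Red.DS (Spec (CommRingCat.of B)) (Fin r → ℤ) ⟶ Red.bc v G := pT ≫ i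
  haveI : IsMonHom i₁ := inferInstanceAs (IsMonHom (pT ≫ i))
  haveI : Mono i₁ := mono_comp _ _
  obtain ⟨Z, gZ, z, hz, -, -⟩ := Groth.L25.Locus.exists_smooth_centralizer
    (Groth.L25.Locus.locally_of_multTypeFT (Groth.L25.Locus.isMultTypeFT_of_isTorus
      (Groth.L08.Borel.isTorus_ds (Spec (CommRingCat.of B)) r))) i₁
  haveI := hz.1; haveI := hz.2.1
  obtain ⟨f, hf⟩ := (hz.2.2 _ i₁).2 fun X x h => by
    rw [← MonObj.mul_comp, ← MonObj.mul_comp]
    congr 1
    exact DSPts.char_injective (by rw [DSPts.char_mul, DSPts.char_mul, mul_comm])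
  have hred : Red.IsReductiveOver _ (Red.geomFibre p (Red.bc v G)) :=
    (reductive_bcComp_iff v (Red.geomPt p) rfl).2 (isReductiveOver_of_geomFibre _ (by
      show (Red.geomPt p ≫ v) _ = s
      rw [Scheme.Hom.comp_apply, Groth.L08.Borel.geomPt_apply]
      exact hp) h₀)
  have hmax : Red.IsMaximalTorus ((Over.pullback (Red.geomPt p)).map i₁) := by
    haveI : IsMonHom ((Over.pullback (Red.geomPt p)).map pT) := inferInstance
    haveI : IsMonHom ((Over.pullback (Red.geomPt p)).map i) := inferInstance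
    rw [show (Over.pullback (Red.geomPt p)).map i₁ =
      (Over.pullback (Red.geomPt p)).map pT ≫ (Over.pullback (Red.geomPt p)).map i from Functor.map_comp _ _ _]
    exact Groth.L08.Borel.isMaximalTorus_of_isMaxTorus (Groth.L08.MonoRed.isMaxTorus_iso_comp _
      ⟨inferInstance, Functor.map_mono _ _, Groth.L25.Locus.isTorus_bc hi.2.2.1 _,
        fun T' _ j _ _ g hT' hg => hi.2.2.2 p T' j g hT' hg⟩
      (Groth.L25.Locus.isTorus_bc (Groth.L08.Borel.isTorus_ds _ r) _))
  obtain ⟨U₀, hpU, hiso, -⟩ := Groth.L08.TorusWeights.exists_nhd_selfCentral hconn' i₁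
    (Groth.L08.Borel.isTorus_ds _ r) z hz f hf p hred hmax
  -- an affine piece
  obtain ⟨_, ⟨W', hW', rfl⟩, hpW, hWU⟩ :=
    (Spec (CommRingCat.of B)).isBasis_affineOpens.exists_subset_of_mem_open hpU U₀.2
  let W : (Spec (CommRingCat.of B)).Opens := W'
  haveI : IsAffine W.toScheme := hW'
  let j : W.toScheme ⟶ Spec (CommRingCat.of B) := W.ι
  let j' : W.toScheme ⟶ U₀.toScheme := (Spec (CommRingCat.of B)).homOfLE hWU
  have hj : j' ≫ U₀.ι = j := Scheme.homOfLE_ι _ hWU
  haveI : IsIso ((Over.pullback j).map f) := by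
    haveI := hiso
    haveI : IsIso ((Over.pullback U₀.ι ⋙ Over.pullback j').map f) :=
      inferInstanceAs (IsIso ((Over.pullback j').map ((Over.pullback U₀.ι).map f)))
    rw [← hj]
    exact (NatIso.isIso_map_iff (Over.pullbackComp j' U₀.ι) f).2 inferInstance
  haveI : IsAffineHom (Red.bc j (Red.bc v G)).hom := inferInstanceAs (IsAffineHom (pullback.snd (Red.bc v G).hom j))
  haveI : Smooth (Red.bc j (Red.bc v G)).hom := inferInstanceAs (Smooth (pullback.snd (Red.bc v G).hom j))
  haveI := Groth.L25.SplitSub.isMonHom_bcHom j i₁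
  haveI : Mono ((Over.pullback j).map i₁) := Functor.map_mono _ _
  haveI : Mono (Groth.L25.SplitSub.bcHom j i₁) := mono_comp _ _
  have hcent : Red.IsCentralizerOf (Groth.L25.SplitSub.bcHom j i₁) (Groth.L25.SplitSub.bcHom j i₁) := by
    haveI : IsMonHom (Iso.refl (Red.bc j (Red.bc v G))).hom := inferInstanceAs (IsMonHom (𝟙 _))
    exact Groth.L08.Borel.isCentralizerOf_transport (Iso.refl _) (Groth.L25.SplitSub.bcDS j).symm
      (by simp [Groth.L25.SplitSub.bcHom])
      ((Groth.L25.SplitSub.bcDS j).symm ≪≫ asIso ((Over.pullback j).map f))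
      (by simp [Groth.L25.SplitSub.bcHom, ← Functor.map_comp, hf])
      (Groth.L08.Borel.isCentralizerOf_bc j hz)
  obtain ⟨U, hU, hall⟩ := exists_nhd_reductive_split
    (Groth.L25.Extension.isConnected_fibre_bc j (Red.bc v G) hconn') (Groth.L25.SplitSub.bcHom j i₁) hcent
    (Red.geomPt (⟨p, hpW⟩ : W.toScheme))
    ((reductive_bcComp_iff j _ rfl).2 ((reductive_bcComp_iff v _ rfl).2 (isReductiveOver_of_geomFibre _ (by
      show ((Red.geomPt (⟨p, hpW⟩ : W.toScheme) ≫ j) ≫ v) _ = s
      rw [Scheme.Hom.comp_apply, Scheme.Hom.comp_apply, Groth.L08.Borel.geomPt_apply]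
      exact hp) h₀)))
  rw [Groth.L08.Borel.geomPt_apply] at hU
  let e : U.toScheme ⟶ S := U.ι ≫ j ≫ v
  refine ⟨⟨Set.range e.base, e.isOpenMap.isOpen_range⟩, ⟨⟨⟨p, hpW⟩, hU⟩, hp⟩, fun K _ _ b ⟨x, hx⟩ => ?_⟩
  obtain ⟨σ, hσ⟩ := Groth.L08.Borel.exists_pt_lift_etale e b x hx
  have h := hall K (σ ≫ U.ι) (by rw [Scheme.Hom.comp_apply]; exact (σ (IsLocalRing.closedPoint K)).2)
  exact (reductive_bcComp_iff v _ (by simp only [Category.assoc]; exact hσ)).1
    ((reductive_bcComp_iff j _ rfl).1 h)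

/-- **the reductive locus is open** -/
theorem isOpen_reductiveLocus (hconn : ∀ s : S, _root_.IsConnected (G.hom.base ⁻¹' {s})) :
    IsOpen {s : S | Red.IsReductiveOver (AlgebraicClosure (S.residueField s)) (Red.geomFibre s G)} := by
  refine isOpen_iff_forall_mem_open.2 fun s hs => ?_
  obtain ⟨U, hsU, hU⟩ := exists_nhd_reductive hconn s hs
  exact ⟨U, fun t ht => hU _ (Red.geomPt t) (by rw [Groth.L08.Borel.geomPt_apply]; exact ht), U.2, hsU⟩

end Groth.L25.RedOpen
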