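import Groth.Agent.L06.CoxeterElt.Reflect
import Groth.Agent.L14.Luna.Cor
import Groth.Agent.L14.Luna.CentRed
import Groth.Agent.L08.Chev.Comp
import Groth.Agent.L06.RootLines.Torus
import Groth.Agent.L19.AlgGrpBasic.LargestNormal

/-!
# A criterion for reductivity in semisimple rank one
-/

set_option autoImplicit false
set_option linter.unusedSectionVars false
set_option linter.style.haveILetI false
set_option backward.isDefEq.respectTransparency.types false
set_option maxHeartbeats 1000000

universe u

open CategoryTheory CategoryTheory.Limits MonoidalCategory CartesianMonoidalCategory MonObj GrpObj AlgebraicGeometry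
open Groth.L08.Borel Groth.L06.CoxeterElt

noncomputable section

namespace Groth.L25.RedOpen

variable {k : Type u} [Field k] [IsAlgClosed k]

local notation "U1" => 𝟙_ (Over (Spec (CommRingCat.of k)))

/-- a smooth connected subgroup receiving all homomorphisms from smooth connected groups -/
theorem exists_connected_red (D : Over (Spec (CommRingCat.of k))) [GrpObj D] [LocallyOfFiniteType D.hom] :
    ∃ (K : Over (Spec (CommRingCat.of k))) (_ : GrpObj K) (j : K ⟶ D), IsMonHom j ∧ IsClosedImmersion j.left ∧
      Smooth K.hom ∧ ConnectedSpace K.left ∧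
      ∀ (X : Over (Spec (CommRingCat.of k))) [GrpObj X] [Smooth X.hom] [ConnectedSpace X.left] (f : X ⟶ D)
        [IsMonHom f], ∃ g : X ⟶ K, g ≫ j = f := by
  obtain ⟨N, gN, c, hc⟩ := Groth.L08.Chev.exists_idComp D
  haveI := hc.hom; haveI := hc.closedImm; haveI := hc.openImm; haveI := hc.connectedSpace; haveI := hc.lft
  obtain ⟨R, gR, j, hj, hjc, hjs, hsurj, hfac⟩ := exists_red_subgroup N
  haveI := hj; haveI := hjc; haveI := hjs; haveI := hsurj
  haveI : ConnectedSpace R.left := by
    refine connectedSpace_iff_univ.2 ⟨⟨η[R].left (IsLocalRing.closedPoint k), trivial⟩, ?_⟩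
    refine j.left.isClosedEmbedding.toIsEmbedding.toIsInducing.isPreconnected_image.1 ?_
    rw [Set.image_univ, Set.range_eq_univ.2 hsurj.surj]
    exact isPreconnected_univ
  refine ⟨R, gR, j ≫ c, inferInstance, inferInstanceAs (IsClosedImmersion (j.left ≫ c.left)), hjs, inferInstance,
    fun X _ _ _ f _ => ?_⟩
  haveI : IsReduced X.left := Groth.Agent.AV.isReduced_of_smooth_field X.hom
  have hr : Set.range f.left ⊆ Set.range c.left := by
    rw [hc.range]
    refine (isPreconnected_range f.left.continuous).subset_connectedComponent ?_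
    refine ⟨Groth.L25.Component.one X, ?_⟩
    show f.left (η[X].left (IsLocalRing.closedPoint k)) = η[D].left (IsLocalRing.closedPoint k)
    rw [← Scheme.Hom.comp_apply, ← Over.comp_left, IsMonHom.one_hom f]
  let f₁ : X ⟶ N := Over.homMk (IsOpenImmersion.lift c.left f.left hr) (by
    show IsOpenImmersion.lift c.left f.left hr ≫ N.hom = X.hom
    rw [← Over.w c, ← Category.assoc, IsOpenImmersion.lift_fac, Over.w f])
  obtain ⟨g, hg⟩ := hfac X f₁ inferInstance
  refine ⟨g, ?_⟩
  rw [← Category.assoc, hg]
  apply Over.OverMorphism.ext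
  exact IsOpenImmersion.lift_fac _ _ _

/-- **reductivity in semisimple rank one**: a connected group of dimension at most two more than a maximal torus, with
a point normalising the torus and acting non-trivially on it, is reductive -/
theorem isReductiveOver_rankOne {C : Over (Spec (CommRingCat.of k))} [GrpObj C] [IsAffine C.left] [Smooth C.hom]
    [ConnectedSpace C.left] {r : ℕ} {iT : TT k r ⟶ C} (hT : AGF.IsMaxTorus iT)
    (hd : topologicalKrullDim C.left ≤ ((r + 2 : ℕ) : WithBot ℕ∞)) {n : U1 ⟶ C}
    {θ : (Fin r → ℤ) →+ (Fin r → ℤ)} (hn : Acts iT n θ) (hθ : θ ≠ AddMonoidHom.id _) :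
    Red.IsReductiveOver k C := by
  refine ⟨inferInstance, inferInstance, inferInstance, fun U _ u _ huc hUs hUc hun hns => ?_⟩
  haveI := hT.1; haveI := hT.2.1; haveI := huc; haveI := hUs; haveI := hUc
  haveI : Mono u := Groth.L08.mono_of_closedImmersion u
  haveI : IsAffine U.left := isAffine_of_isAffineHom u.left
  by_contra hU
  -- the subgroup is not in the torus
  have hUT : ¬ ∃ g : U ⟶ TT k r, g ≫ iT = u := by
    rintro ⟨g, hg⟩
    haveI : IsMonHom g := isMonHom_of_comp_mono g iT u hg
    have h1 : g = 1 := Groth.L14.Luna.hom_torus_eq_one (Groth.L14.Luna.isSolvableGrp_of_noSubtorus U hns) hns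
      hT.2.2.1 g
    refine hU (Groth.L14.Luna.isTrivialGrp_of_id_eq_one ?_)
    rw [← cancel_mono u, Category.id_comp, MonObj.one_comp, ← hg, h1, MonObj.one_comp]
  -- two Borel subgroups exchanged by the point
  obtain ⟨B, -, gB, -, iB, -, t, -, -, hB, -, ht, -, -, -⟩ := Groth.L14.Luna.exists_general_position hT
  haveI := hB.1; haveI := hB.2.1; haveI := hB.2.2.1; haveI := hB.2.2.2.1
  haveI : IsAffine B.left := isAffine_of_isAffineHom iB.left
  haveI : Mono iB := Groth.L08.mono_of_closedImmersion iB
  obtain ⟨θ', τ, hτ, -, -, -⟩ := exists_inv hT hn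
  let iB' : B ⟶ C := AGF.conjBy n iB
  have hB' : Red.IsBorelOver k iB' := isBorelOver_conjBy hB n
  haveI := hB'.1; haveI := hB'.2.1
  haveI : Mono iB' := Groth.L08.mono_of_closedImmersion iB'
  let t' : TT k r ⟶ B := τ.inv ≫ t
  have ht' : t' ≫ iB' = iT := by rw [Category.assoc, comp_conjBy, ht, Iso.inv_comp_eq, hτ, hn]
  haveI : IsMonHom t := isMonHom_of_comp_mono t iB iT ht
  haveI : IsMonHom t' := isMonHom_of_comp_mono t' iB' iT ht'
  obtain ⟨f, hf⟩ := Groth.L14.Luna.normal_le_borel u hun hns hB
  obtain ⟨f', hf'⟩ := Groth.L14.Luna.normal_le_borel u hun hns hB'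
  haveI : IsMonHom f := isMonHom_of_comp_mono f iB u hf
  haveI : IsMonHom f' := isMonHom_of_comp_mono f' iB' u hf'
  -- their intersection
  have hpb : IsPullback (pullback.fst iB iB') (pullback.snd iB iB') iB iB' := IsPullback.of_hasPullback iB iB'
  haveI : Mono (pullback.fst iB iB') := inferInstance
  obtain ⟨gD, hD⟩ := Groth.L14.Luna.exists_grpObj_pullback hpb
  letI := gD
  haveI := hD
  haveI : IsClosedImmersion (pullback.fst iB iB').left :=
    MorphismProperty.of_isPullback (P := @IsClosedImmersion) (hpb.map (Over.forget _)).flip ‹IsClosedImmersion iB'.left›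
  haveI : IsClosedImmersion (pullback.snd iB iB').left :=
    MorphismProperty.of_isPullback (P := @IsClosedImmersion) (hpb.map (Over.forget _)) ‹IsClosedImmersion iB.left›
  haveI : LocallyOfFiniteType (pullback iB iB').hom := by rw [← Over.w (pullback.fst iB iB')]; infer_instance
  obtain ⟨K, gK, j, hj, hjc, hKs, hKc, huniv⟩ := exists_connected_red (pullback iB iB')
  haveI := hj; haveI := hjc; haveI := hKs; haveI := hKc
  obtain ⟨hTa, hTs, hTc, -, -⟩ := torus_props hT.2.2.1
  haveI := hTs; haveI := hTc
  haveI : IsMonHom (pullback.lift t t' (ht.trans ht'.symm)) :=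
    isMonHom_of_comp_mono _ (pullback.fst iB iB') t (pullback.lift_fst _ _ _)
  haveI : IsMonHom (pullback.lift f f' (hf.trans hf'.symm)) :=
    isMonHom_of_comp_mono _ (pullback.fst iB iB') f (pullback.lift_fst _ _ _)
  obtain ⟨tK, htK⟩ := huniv _ (pullback.lift t t' (ht.trans ht'.symm))
  obtain ⟨uK, huK⟩ := huniv _ (pullback.lift f f' (hf.trans hf'.symm))
  let κ : K ⟶ B := j ≫ pullback.fst iB iB'
  let κ' : K ⟶ B := j ≫ pullback.snd iB iB'
  have hκ : κ ≫ iB = κ' ≫ iB' := by simp only [κ, κ', Category.assoc, pullback.condition]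
  have htκ : tK ≫ κ = t := by simp only [κ, ← Category.assoc, htK, pullback.lift_fst]
  have huκ : uK ≫ κ = f := by simp only [κ, ← Category.assoc, huK, pullback.lift_fst]
  haveI : IsClosedImmersion κ.left := inferInstanceAs (IsClosedImmersion (j.left ≫ (pullback.fst iB iB').left))
  haveI : IsClosedImmersion κ'.left := inferInstanceAs (IsClosedImmersion (j.left ≫ (pullback.snd iB iB').left))
  haveI : Mono κ' := Groth.L08.mono_of_closedImmersion κ'
  haveI : IsClosedImmersion tK.left := by
    haveI : QuasiCompact C.hom := quasiCompact_of_compactSpace _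
    haveI : IsClosedImmersion iT.left :=
      Groth.L25.MonoClosed.isClosedImmersion_of_mono (Groth.L25.Locus.isMultTypeFT_of_isTorus hT.2.2.1) iT
    haveI : IsClosedImmersion (tK.left ≫ (κ ≫ iB).left) := by
      rw [← Over.comp_left, ← Category.assoc, htκ, ht]; infer_instance
    haveI : IsClosedImmersion (κ ≫ iB).left := inferInstanceAs (IsClosedImmersion (κ.left ≫ iB.left))
    exact IsClosedImmersion.of_comp tK.left (κ ≫ iB).left
  -- the dimensions
  obtain ⟨a, -, ha⟩ := Groth.L08.GrpDim.exists_dim (TT k r)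
  obtain ⟨b, -, hb⟩ := Groth.L08.GrpDim.exists_dim K
  obtain ⟨c, -, hc⟩ := Groth.L08.GrpDim.exists_dim B
  obtain ⟨d, -, hd'⟩ := Groth.L08.GrpDim.exists_dim C
  have har : a = r := by
    haveI : IsIso (Groth.L06.RootLines.toDS k r) := inferInstance
    have h := (IsHomeomorph.topologicalKrullDim_eq _ (Scheme.homeoOfIso ((Over.forget _).mapIso
      (asIso (Groth.L06.RootLines.toDS k r)))).isHomeomorph).trans Groth.L08.Borel.dim_DS
    replace h := ha.symm.trans h
    exact_mod_cast h
  have hab : a ≤ b := by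
    have h := tK.left.isClosedEmbedding.isInducing.topologicalKrullDim_le
    rw [ha, hb] at h
    exact_mod_cast h
  have hbc : b ≤ c := by
    have h := κ.left.isClosedEmbedding.isInducing.topologicalKrullDim_le
    rw [hb, hc] at h
    exact_mod_cast h
  have hcd : c ≤ d := by
    have h := iB.left.isClosedEmbedding.isInducing.topologicalKrullDim_le
    rw [hc, hd'] at h
    exact_mod_cast h
  have hdr : d ≤ r + 2 := by
    rw [hd'] at hd
    exact_mod_cast hd
  -- the point normalises a Borel subgroup only if it centralises the torus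
  have hbad : ∀ σ : B ≅ B, σ.hom ≫ iB = iB' → False := fun σ hσ => by
    have h1 := centralizes_of_normalizes hT hB t ht n τ (by rw [hτ]; exact hn.symm) σ hσ
    exact hθ (acts_unique hn (by rw [Acts, h1, dP_id, Category.id_comp]))
  by_cases hab' : a = b
  · haveI : IsIso tK := Groth.L19.AlgGrpBasic.isIso_of_dim_eq tK (by rw [ha, hb, hab'])
    refine hUT ⟨uK ≫ inv tK, ?_⟩
    rw [show iT = tK ≫ κ ≫ iB by rw [← Category.assoc, htκ, ht], Category.assoc, IsIso.inv_hom_id_assoc,
      ← Category.assoc, huκ, hf]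
  by_cases hbc' : b = c
  · haveI : IsIso κ := Groth.L19.AlgGrpBasic.isIso_of_dim_eq κ (by rw [hb, hc, hbc'])
    haveI : IsIso κ' := Groth.L19.AlgGrpBasic.isIso_of_dim_eq κ' (by rw [hb, hc, hbc'])
    exact hbad ((asIso κ').symm ≪≫ asIso κ) (by
      simp only [Iso.trans_hom, Iso.symm_hom, asIso_inv, asIso_hom, Category.assoc, hκ, IsIso.inv_hom_id_assoc])
  haveI : IsIso iB := Groth.L19.AlgGrpBasic.isIso_of_dim_eq iB (by rw [hc, hd']; congr 1; omega)
  haveI : IsIso iB' := Groth.L19.AlgGrpBasic.isIso_of_dim_eq iB' (by rw [hc, hd']; congr 1; omega)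
  exact hbad (asIso iB' ≪≫ (asIso iB).symm) (by simp)

end Groth.L25.RedOpen
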