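import Groth.Agent.L25.RedOpen.Line
import Groth.Agent.L25.RedOpen.Lines
import Groth.Agent.L14.Luna.SemiRank.Lattice

/-!
# The reductive locus of a group with a self-centralizing split torus is open
-/

set_option autoImplicit false
set_option linter.unusedSectionVars false
set_option linter.style.haveILetI false
set_option backward.isDefEq.respectTransparency.types false
set_option maxHeartbeats 1000000

universe u

open CategoryTheory CategoryTheory.Limits MonoidalCategory CartesianMonoidalCategory MonObj GrpObj AlgebraicGeometry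
open Groth.L06.CoxeterElt Groth.L06.RootLines

noncomputable section

namespace Groth.L25.RedOpen

variable {S : Scheme.{u}} {G : Over S} [GrpObj G] [IsAffineHom G.hom] [Smooth G.hom] {r : ℕ}

/-- **reductive fibres spread out, with a self-centralizing split torus over an affine base** -/
theorem exists_nhd_reductive_split [IsAffine S] (hconn : ∀ s : S, _root_.IsConnected (G.hom.base ⁻¹' {s}))
    (i : Red.DS S (Fin r → ℤ) ⟶ G) [IsMonHom i] [Mono i] (hi : Red.IsCentralizerOf i i)
    {K₀ : Type u} [Field K₀] [IsAlgClosed K₀] (b₀ : Spec (CommRingCat.of K₀) ⟶ S)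
    (h₀ : Red.IsReductiveOver K₀ (Red.bc b₀ G)) :
    ∃ U : S.Opens, b₀ (IsLocalRing.closedPoint K₀) ∈ U ∧
      ∀ (K : Type u) [Field K] [IsAlgClosed K] (b : Spec (CommRingCat.of K) ⟶ S),
        b (IsLocalRing.closedPoint K) ∈ U → Red.IsReductiveOver K (Red.bc b G) := by
  classical
  haveI : IsAffine G.left := isAffine_of_isAffineHom G.hom
  obtain ⟨F, hF0, hF⟩ := exists_finset_lines i hi
  have hline : ∀ m : F, ∃ (r' : ℕ) (p : (Fin r → ℤ) →+ (Fin r' → ℤ)), Function.Surjective p ∧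
      (∀ x, (∃ a q : ℤ, a ≠ 0 ∧ a • x = q • (m : Fin r → ℤ)) → p x = 0) ∧
      ∃ U : S.Opens, b₀ (IsLocalRing.closedPoint K₀) ∈ U ∧
        ∀ (K : Type u) [Field K] [IsAlgClosed K] (b : Spec (CommRingCat.of K) ⟶ S),
          b (IsLocalRing.closedPoint K) ∈ U → ∀ (C : Over (Spec (CommRingCat.of K))) [GrpObj C]
            (c : C ⟶ Red.bc b G), Red.IsCentralizerOf (dP K p ≫ iTb b i) c → Red.IsReductiveOver K C := by
    intro m
    obtain ⟨r', p, a₀, hp, ha₀, hker, -, hsat⟩ := Groth.L14.Luna.SemiRank.exists_line_proj (hF0 m m.2)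
    exact ⟨r', p, hp, hsat, exists_nhd_line hconn i hi p hp ha₀ hker b₀ h₀⟩
  choose r' p hp hsat U hU hred using hline
  refine ⟨⟨⋂ m : F, (U m : Set S), isOpen_iInter_of_finite fun m => (U m).2⟩, Set.mem_iInter.2 hU, fun K _ _ b hb => ?_⟩
  obtain ⟨ha, hs, hq, hsep, hcs⟩ := Groth.L08.Borel.fibre_props hconn b
  haveI := ha; haveI := hs; haveI := hq; haveI := hsep; haveI := hcs
  haveI := isMonHom_iTb b i; haveI := mono_iTb b i
  have hZT := selfCentral_fibre b i hi
  refine isReductiveOver_of_lines (isMaxTorus_of_selfCentral (isTorus_TT K r) hZT) hZT fun a ha => ?_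
  by_cases hm : ∃ m : F, p m a = 0
  · obtain ⟨m, hm⟩ := hm
    exact ⟨r' m, p m, hp m, hm, hred m K b (Set.mem_iInter.1 hb m)⟩
  push Not at hm
  obtain ⟨r₁, p₁, a₁, hp₁, -, hker, hpa, -⟩ := Groth.L14.Luna.SemiRank.exists_line_proj ha
  have hne : ∀ m ∈ F, p₁ m ≠ 0 := by
    intro m hm' h
    obtain ⟨q, hq⟩ := (hker m).1 h
    obtain ⟨q', hq'⟩ := (hker a).1 hpa
    refine hm ⟨m, hm'⟩ (hsat ⟨m, hm'⟩ a ⟨q, q', fun e => hF0 m hm' (by rw [hq, e, zero_smul]), ?_⟩)
    show q • a = q' • m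
    rw [hq', hq, ← mul_smul, ← mul_smul, _root_.mul_comm]
  refine ⟨r₁, p₁, hp₁, hpa, fun C _ c hc => ?_⟩
  obtain ⟨e, -, -, he, -⟩ :=
    Groth.L08.TorusWeights.exists_iso_centralizer (centralizer_fibre b i p₁ (hF r₁ p₁ hne)) hc
  haveI := he
  exact isReductiveOver_of_iso e
    (isReductiveOver_torus (Groth.L25.Locus.isTorus_bc (Groth.L08.Borel.isTorus_ds S r) b))

end Groth.L25.RedOpen
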